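/-
The rank of the image of an idempotent in a representation of an algebra is a combination, with
natural coefficients, of the ranks in the simple components.
-/
import Mathlib.LinearAlgebra.Matrix.ToLin
import Mathlib.LinearAlgebra.Matrix.Rank
import Mathlib.LinearAlgebra.Projection
import Mathlib.LinearAlgebra.FiniteDimensional.Basic
import Mathlib.Algebra.Algebra.Operations
import Mathlib.Algebra.Algebra.Pi
import Mathlib.LinearAlgebra.Dimension.RankNullity

set_option linter.unusedSectionVars false
set_option linter.style.haveILetI false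

namespace Cfsg.Agent.BrauerChar

universe w v

variable {k : Type*} [Field k]

/-- A rank factorisation of an idempotent matrix. -/
theorem exists_rank_factor {n : ℕ} {X : Matrix (Fin n) (Fin n) k} (hX : X * X = X) :
    ∃ (A : Matrix (Fin n) (Fin X.rank) k) (B : Matrix (Fin X.rank) (Fin n) k),
      A * B = X ∧ B * A = 1 := by
  classical
  let b := Module.finBasis k (LinearMap.range X.mulVecLin)
  let Al : (Fin (Module.finrank k (LinearMap.range X.mulVecLin)) → k) →ₗ[k] (Fin n → k) :=
    (LinearMap.range X.mulVecLin).subtype ∘ₗ b.equivFun.symm.toLinearMap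
  let Bl : (Fin n → k) →ₗ[k] (Fin (Module.finrank k (LinearMap.range X.mulVecLin)) → k) :=
    b.equivFun.toLinearMap ∘ₗ X.mulVecLin.rangeRestrict
  have hAB : Al ∘ₗ Bl = X.mulVecLin := LinearMap.ext fun w => by
    show ((b.equivFun.symm (b.equivFun (X.mulVecLin.rangeRestrict w))) : Fin n → k) = _
    rw [LinearEquiv.symm_apply_apply]
    rfl
  have hBA : Bl ∘ₗ Al = LinearMap.id := LinearMap.ext fun w => by
    have hy : X.mulVecLin.rangeRestrict (b.equivFun.symm w : Fin n → k) = b.equivFun.symm w := by
      obtain ⟨z, hz⟩ := (b.equivFun.symm w).2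
      refine Subtype.ext ?_
      show X.mulVecLin _ = _
      rw [← hz, ← LinearMap.comp_apply, ← Matrix.mulVecLin_mul, hX]
    show b.equivFun (X.mulVecLin.rangeRestrict (b.equivFun.symm w : Fin n → k)) = w
    rw [hy, LinearEquiv.apply_symm_apply]
  exact ⟨LinearMap.toMatrix' Al, LinearMap.toMatrix' Bl,
    ((LinearMap.toMatrix'_comp Al Bl).symm.trans (congrArg LinearMap.toMatrix' hAB)).trans
      (LinearMap.toMatrix'_toLin' X),
    ((LinearMap.toMatrix'_comp Bl Al).symm.trans (congrArg LinearMap.toMatrix' hBA)).trans
      LinearMap.toMatrix'_id⟩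

variable {V : Type v} [AddCommGroup V] [Module k V] [FiniteDimensional k V]

/-- The ranges of a finite family of orthogonal idempotents add up. -/
theorem finrank_range_sum {ι : Type*} (s : Finset ι) (P : ι → Module.End k V)
    (hi : ∀ i ∈ s, P i * P i = P i) (ho : ∀ i ∈ s, ∀ j ∈ s, i ≠ j → P i * P j = 0) :
    Module.finrank k (LinearMap.range (∑ i ∈ s, P i)) =
      ∑ i ∈ s, Module.finrank k (LinearMap.range (P i)) := by
  classical
  induction s using Finset.induction with
  | empty =>
    have h0 : LinearMap.range (0 : Module.End k V) = ⊥ := LinearMap.range_eq_bot.2 rfl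
    rw [Finset.sum_empty, Finset.sum_empty, Submodule.finrank_eq_zero]
    exact h0
  | insert a s ha ih =>
    rw [Finset.sum_insert ha, Finset.sum_insert ha,
      ← ih (fun i h => hi i (Finset.mem_insert_of_mem h))
        fun i h j h' => ho i (Finset.mem_insert_of_mem h) j (Finset.mem_insert_of_mem h')]
    set Q := ∑ i ∈ s, P i with hQ
    set A := P a
    have hQA : Q * A = 0 := by
      rw [hQ, Finset.sum_mul]
      exact Finset.sum_eq_zero fun i h => ho i (Finset.mem_insert_of_mem h) a
        (Finset.mem_insert_self a s) fun e => ha (e ▸ h)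
    have hAQ : A * Q = 0 := by
      rw [hQ, Finset.mul_sum]
      exact Finset.sum_eq_zero fun i h => ho a (Finset.mem_insert_self a s) i
        (Finset.mem_insert_of_mem h) fun e => ha (e ▸ h)
    have hA : A * A = A := hi a (Finset.mem_insert_self a s)
    have hQQ : Q * Q = Q := by
      rw [hQ, Finset.sum_mul_sum]
      refine Finset.sum_congr rfl fun i h => ?_
      rw [Finset.sum_eq_single i (fun j hj hne => ho i (Finset.mem_insert_of_mem h) j
        (Finset.mem_insert_of_mem hj) hne.symm) fun hn => absurd h hn,
        hi i (Finset.mem_insert_of_mem h)]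
    have hr : LinearMap.range (A + Q) = LinearMap.range A ⊔ LinearMap.range Q := by
      refine le_antisymm ?_ (sup_le ?_ ?_)
      · rintro _ ⟨x, rfl⟩
        exact Submodule.add_mem_sup ⟨x, rfl⟩ ⟨x, rfl⟩
      · rintro _ ⟨x, rfl⟩
        refine ⟨A x, ?_⟩
        rw [← Module.End.mul_apply, add_mul, hA, hQA, add_zero]
      · rintro _ ⟨x, rfl⟩
        refine ⟨Q x, ?_⟩
        rw [← Module.End.mul_apply, add_mul, hQQ, hAQ, zero_add]
    have hd : LinearMap.range A ⊓ LinearMap.range Q = ⊥ := by
      refine eq_bot_iff.2 fun x hx => ?_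
      obtain ⟨⟨y, rfl⟩, ⟨z, hz⟩⟩ := hx
      rw [Submodule.mem_bot, ← hA, Module.End.mul_apply, ← hz, ← Module.End.mul_apply, hAQ,
        LinearMap.zero_apply]
    have h2 := Submodule.finrank_sup_add_finrank_inf_eq (LinearMap.range A) (LinearMap.range Q)
    rw [hd, finrank_bot, add_zero, ← hr] at h2
    exact h2

/-- An idempotent preserving a submodule splits its rank. -/
theorem finrank_range_split (W : Submodule k V) {P : Module.End k V} (hP : P * P = P)
    (hW : ∀ v ∈ W, P v ∈ W) :
    Module.finrank k (LinearMap.range P) =
      Module.finrank k (LinearMap.range (P.restrict hW : Module.End k W)) +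
        Module.finrank k (LinearMap.range (W.mapQ W P hW : Module.End k (V ⧸ W))) := by
  classical
  set U := LinearMap.range P
  have h := LinearMap.finrank_range_add_finrank_ker (W.mkQ ∘ₗ U.subtype)
  rw [LinearMap.range_comp, Submodule.range_subtype] at h
  have e1 : U.map W.mkQ = LinearMap.range (W.mapQ W P hW : Module.End k (V ⧸ W)) := by
    rw [← LinearMap.range_comp_of_range_eq_top _ (Submodule.range_mkQ W), Submodule.mapQ_mkQ,
      LinearMap.range_comp]
  have e2 : Module.finrank k (LinearMap.ker (W.mkQ ∘ₗ U.subtype)) =
      Module.finrank k (LinearMap.range (P.restrict hW : Module.End k W)) := by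
    rw [← Submodule.finrank_map_subtype_eq U,
      ← Submodule.finrank_map_subtype_eq W (LinearMap.range (P.restrict hW : Module.End k W))]
    suffices hs : (LinearMap.ker (W.mkQ ∘ₗ U.subtype)).map U.subtype =
        (LinearMap.range (P.restrict hW : Module.End k W)).map W.subtype by rw [hs]
    ext x
    simp only [Submodule.mem_map, LinearMap.mem_ker, LinearMap.mem_range]
    constructor
    · rintro ⟨⟨u, y, rfl⟩, hu, rfl⟩
      simp only [LinearMap.comp_apply, Submodule.subtype_apply, Submodule.mkQ_apply,
        Submodule.Quotient.mk_eq_zero] at hu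
      refine ⟨⟨P y, hu⟩, ⟨⟨P y, hu⟩, Subtype.ext ?_⟩, rfl⟩
      simp [← Module.End.mul_apply, hP]
    · rintro ⟨w, ⟨y, rfl⟩, rfl⟩
      refine ⟨⟨P y, y, rfl⟩, ?_, ?_⟩
      · simp [hW y y.2]
      · simp
  rw [e1, e2] at h
  linarith [h]

section Mult

variable {r : ℕ} {d : Fin r → ℕ} {R : Type w} [Ring R] [Algebra k R]

/-- The rank of the image of an idempotent of one matrix component. -/
theorem finrank_range_single (φ : (Π i, Matrix (Fin (d i)) (Fin (d i)) k) →ₐ[k] Module.End k V)
    (l : Fin r) (o : Fin (d l)) {X : Matrix (Fin (d l)) (Fin (d l)) k} (hX : X * X = X) :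
    Module.finrank k (LinearMap.range (φ (Pi.single l X))) =
      X.rank * Module.finrank k (LinearMap.range (φ (Pi.single l (Matrix.single o o 1)))) := by
  classical
  obtain ⟨A, B, hAB, hBA⟩ := exists_rank_factor hX
  set z := φ (Pi.single l (Matrix.single o o 1))
  let au : Fin X.rank → Matrix (Fin (d l)) (Fin (d l)) k :=
    fun i => Matrix.of fun a b => if b = o then A a i else 0
  let bv : Fin X.rank → Matrix (Fin (d l)) (Fin (d l)) k :=
    fun i => Matrix.of fun a b => if a = o then B i b else 0
  let u : Fin X.rank → Module.End k V := fun i => φ (Pi.single l (au i))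
  let v : Fin X.rank → Module.End k V := fun i => φ (Pi.single l (bv i))
  have huz : ∀ i, u i * z = u i := fun i => by
    rw [← map_mul, ← Pi.single_mul]
    congr 2
    ext a b
    rw [Matrix.mul_apply, Finset.sum_eq_single o]
    · simp [au, Matrix.single_apply, eq_comm]
    · intro c _ hc; simp [au, hc]
    · simp
  have hvu : ∀ i j, v i * u j = if i = j then z else 0 := fun i j => by
    rw [← map_mul, ← Pi.single_mul]
    have e : bv i * au j = if i = j then Matrix.single o o 1 else 0 := by
      have h1 : ∑ c, B i c * A c j = if i = j then 1 else 0 := by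
        rw [← Matrix.mul_apply, hBA, Matrix.one_apply]
      ext a b
      rw [Matrix.mul_apply]
      simp only [au, bv, Matrix.of_apply]
      by_cases ha : a = o <;> by_cases hb : b = o
      · subst ha hb
        simp only [if_true]
        rw [h1]
        split_ifs <;> simp
      all_goals
        by_cases hij : i = j
        · simp [hij, ha, hb, Ne.symm]
          try exact fun e => absurd e.symm (by assumption)
        · simp [hij, ha, hb]
    rw [e]
    split_ifs
    · rfl
    · simp
  have huv : ∑ i, u i * v i = φ (Pi.single l X) := by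
    simp only [u, v, ← map_mul, ← Pi.single_mul, ← map_sum]
    congr 1
    rw [show (∑ i, Pi.single l (au i * bv i) : Π i, Matrix (Fin (d i)) (Fin (d i)) k) =
      Pi.single l (∑ i, au i * bv i) from
        (map_sum (AddMonoidHom.single (fun i => Matrix (Fin (d i)) (Fin (d i)) k) l)
          (fun i => au i * bv i) Finset.univ).symm]
    congr 1
    ext a b
    rw [Matrix.sum_apply]
    refine Eq.trans ?_ (congrFun (congrFun hAB a) b)
    rw [Matrix.mul_apply]
    refine Finset.sum_congr rfl fun i _ => ?_
    rw [Matrix.mul_apply, Finset.sum_eq_single o]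
    · simp [au, bv]
    · intro c _ hc; simp [au, hc]
    · simp
  have hPi : ∀ i, u i * v i * (u i * v i) = u i * v i := fun i => by
    rw [mul_assoc, ← mul_assoc (v i), hvu, if_pos rfl, ← mul_assoc, huz]
  have hPo : ∀ i j, i ≠ j → u i * v i * (u j * v j) = 0 := fun i j h => by
    rw [mul_assoc, ← mul_assoc (v i), hvu, if_neg h, zero_mul, mul_zero]
  have hvi : ∀ i, Module.finrank k (LinearMap.range (u i * v i)) =
      Module.finrank k (LinearMap.range z) := by
    intro i
    let S := LinearMap.range z
    have hle : LinearMap.range (u i * v i) = S.map (u i) := by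
      refine le_antisymm ?_ ?_
      · rintro _ ⟨x, rfl⟩
        refine ⟨z (v i x), ⟨_, rfl⟩, ?_⟩
        rw [← Module.End.mul_apply, huz, ← Module.End.mul_apply]
      · rintro _ ⟨_, ⟨x, rfl⟩, rfl⟩
        refine ⟨u i x, ?_⟩
        rw [← Module.End.mul_apply, mul_assoc, hvu, if_pos rfl]
        rfl
    rw [hle]
    have hinj : Function.Injective ((u i).domRestrict S) := by
      rintro ⟨a, a', rfl⟩ ⟨b, b', rfl⟩ h
      have h' := congrArg (v i) h
      have hvu' : ∀ y, v i (u i y) = z y := fun y => by
        rw [← Module.End.mul_apply, hvu, if_pos rfl]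
      simp only [LinearMap.domRestrict_apply, hvu'] at h'
      have hzz : z * z = z := by
        rw [← map_mul, ← Pi.single_mul, Matrix.single_mul_single_same, one_mul]
      exact Subtype.ext (by simpa only [Module.End.mul_apply, ← Module.End.mul_apply z z, hzz] using h')
    rw [← LinearMap.range_domRestrict]
    exact LinearMap.finrank_range_of_inj hinj
  rw [← huv, finrank_range_sum _ _ (fun i _ => hPi i) (fun i _ j _ => hPo i j),
    Finset.sum_congr rfl fun i _ => hvi i, Finset.sum_const, Finset.card_univ, Fintype.card_fin,
    smul_eq_mul]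

/-- The multiplicities of the simple components in a representation. -/
theorem exists_mult (hd : ∀ i, 0 < d i)
    (q : R →ₐ[k] (Π i, Matrix (Fin (d i)) (Fin (d i)) k)) (hq : Function.Surjective q)
    (J : Submodule k R) (N : ℕ) (hN : J ^ N = ⊥) (hJq : ∀ x, q x = 0 → x ∈ J)
    (F : R →ₐ[k] Module.End k V) :
    ∃ c : Fin r → ℕ, ∀ e, e * e = e →
      Module.finrank k (LinearMap.range (F e)) = ∑ l, c l * (q e l).rank := by
  classical
  let o : ∀ l, Fin (d l) := fun l => ⟨0, hd l⟩
  suffices key : ∀ (n : ℕ) (V : Type v) [AddCommGroup V] [Module k V] [FiniteDimensional k V]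
      (F : R →ₐ[k] Module.End k V), Module.finrank k V = n → ∃ c : Fin r → ℕ, ∀ e, e * e = e →
        Module.finrank k (LinearMap.range (F e)) = ∑ l, c l * (q e l).rank from key _ V F rfl
  intro n
  induction n using Nat.strong_induction_on with
  | _ n ih =>
  intro V _ _ _ F hn
  rcases Nat.eq_zero_or_pos n with rfl | hpos
  · refine ⟨0, fun e _ => ?_⟩
    have := (LinearMap.range (F e)).finrank_le
    simp only [Pi.zero_apply, zero_mul, Finset.sum_const_zero]
    omega
  -- the vectors killed by the kernel
  let W : Submodule k V :=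
    { carrier := {v | ∀ x, q x = 0 → F x v = 0}
      zero_mem' := fun x _ => map_zero _
      add_mem' := fun {a b} ha hb x hx => by rw [map_add, ha x hx, hb x hx, add_zero]
      smul_mem' := fun c v hv x hx => by rw [map_smul, hv x hx, smul_zero] }
  have hW : ∀ x : R, ∀ v ∈ W, F x v ∈ W := fun x v hv y hy => by
    rw [← Module.End.mul_apply, ← map_mul]
    exact hv _ (by rw [map_mul, hy, zero_mul])
  have hWne : W ≠ ⊥ := by
    intro hbot
    have hstep : ∀ m, ∀ v : V, (∀ x ∈ J ^ m, F x v = 0) → v = 0 := by
      intro m
      induction m with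
      | zero =>
        intro v hv
        have := hv 1 (by rw [pow_zero]; exact Submodule.one_le.1 le_rfl)
        rwa [map_one] at this
      | succ m ihm =>
        intro v hv
        have hmem : v ∈ W := fun x hx => ihm _ fun y hy => by
          rw [← Module.End.mul_apply, ← map_mul]
          refine hv _ ?_
          rw [pow_succ]
          exact Submodule.mul_mem_mul hy (hJq x hx)
        rwa [hbot, Submodule.mem_bot] at hmem
    obtain ⟨v, hv⟩ : ∃ v : V, v ≠ 0 := by
      by_contra h
      push Not at h
      haveI : Subsingleton V := ⟨fun a b => by rw [h a, h b]⟩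
      have := Module.finrank_zero_of_subsingleton (R := k) (M := V)
      omega
    exact hv (hstep N v fun x hx => by
      rw [hN, Submodule.mem_bot] at hx
      rw [hx, map_zero, LinearMap.zero_apply])
  -- the part of the representation on these vectors factors through `q`
  let FW : R →ₐ[k] Module.End k W :=
    AlgHom.ofLinearMap
      { toFun := fun x => (F x).restrict (hW x)
        map_add' := fun a b => LinearMap.ext fun w => Subtype.ext (by simp)
        map_smul' := fun a b => LinearMap.ext fun w => Subtype.ext (by simp) }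
      (LinearMap.ext fun w => Subtype.ext (by simp))
      (fun a b => LinearMap.ext fun w => Subtype.ext (by simp))
  let sec := Function.surjInv hq
  have hsec : ∀ X, q (sec X) = X := Function.surjInv_eq hq
  have hfac : ∀ x y, q x = q y → FW x = FW y := fun x y h => by
    rw [← sub_eq_zero, ← map_sub]
    exact LinearMap.ext fun w => Subtype.ext (w.2 (x - y) (by rw [map_sub, h, sub_self]))
  let φ : (Π i, Matrix (Fin (d i)) (Fin (d i)) k) →ₐ[k] Module.End k W :=
    AlgHom.ofLinearMap
      { toFun := fun X => FW (sec X)
        map_add' := fun a b => by rw [← map_add]; exact hfac _ _ (by simp [hsec])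
        map_smul' := fun a b => by
          rw [RingHom.id_apply, ← map_smul]; exact hfac _ _ (by simp [hsec]) }
      (by show FW (sec 1) = 1; rw [← map_one FW]; exact hfac _ _ (by simp [hsec]))
      (fun a b => by
        show FW (sec (a * b)) = FW (sec a) * FW (sec b)
        rw [← map_mul]; exact hfac _ _ (by simp [hsec]))
  have hlt : Module.finrank k (V ⧸ W) < n := by
    have h1 := W.finrank_quotient_add_finrank
    have h2 : Module.finrank k W ≠ 0 := Submodule.finrank_eq_zero.not.2 hWne
    omega
  let FQ : R →ₐ[k] Module.End k (V ⧸ W) :=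
    AlgHom.ofLinearMap
      { toFun := fun x => W.mapQ W (F x) (hW x)
        map_add' := fun a b => Submodule.linearMap_qext _ (LinearMap.ext fun w => by simp)
        map_smul' := fun a b => Submodule.linearMap_qext _ (LinearMap.ext fun w => by simp) }
      (Submodule.linearMap_qext _ (LinearMap.ext fun w => by simp))
      (fun a b => Submodule.linearMap_qext _ (LinearMap.ext fun w => by simp))
  obtain ⟨c, hc⟩ := ih _ hlt (V ⧸ W) FQ rfl
  let w : Fin r → ℕ := fun l =>
    Module.finrank k (LinearMap.range (φ (Pi.single l (Matrix.single (o l) (o l) 1))))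
  refine ⟨fun l => w l + c l, fun e he => ?_⟩
  have hPe : F e * F e = F e := by rw [← map_mul, he]
  rw [finrank_range_split W hPe (hW e)]
  have h1 : Module.finrank k (LinearMap.range (FW e)) = ∑ l, w l * (q e l).rank := by
    have hqe : ∀ l, q e l * q e l = q e l := fun l => by rw [← Pi.mul_apply, ← map_mul, he]
    have hsum : FW e = ∑ l, φ (Pi.single l (q e l)) := by
      rw [← map_sum, Finset.univ_sum_single]
      exact hfac _ _ (hsec _).symm
    rw [hsum, finrank_range_sum _ _ (fun l _ => by rw [← map_mul, ← Pi.single_mul, hqe])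
      (fun l _ m _ h => by
        rw [← map_mul]
        convert map_zero φ
        funext i
        rcases eq_or_ne i l with rfl | hi
        · simp [Pi.single_eq_of_ne h]
        · simp [Pi.single_eq_of_ne hi])]
    exact Finset.sum_congr rfl fun l _ => by
      rw [finrank_range_single φ l (o l) (hqe l), mul_comm]
  have h2 := hc e he
  simp only [add_mul, Finset.sum_add_distrib]
  rw [← h1, ← h2]
  rfl

end Mult

end Cfsg.Agent.BrauerChar
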