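/-
The Brauer character of a representation over the residue field, through the ranks of the
eigen-idempotents of the cyclic groups of order prime to `p`.
-/
import Cfsg.Agent.Lib.BrauerPairs.Concrete
import Cfsg.Agent.Lib.BrauerChar.RankFun
import Cfsg.Agent.Lib.BlockAlg.RankLift
import Mathlib.RingTheory.RootsOfUnity.Complex
import Mathlib.LinearAlgebra.Matrix.ToLin

set_option linter.unusedSectionVars false
set_option linter.style.haveILetI false

namespace Cfsg.Agent.BrauerChar

open scoped Classical
open Cfsg MonoidAlgebra Cfsg.Agent.Blocks Cfsg.Agent.BrauerPairs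

universe u v

variable {G : Type u} [Group G] [Fintype G] {M : Ideal AlgInt} [M.IsPrime] {p : ℕ}

/-- The standard primitive root of unity of the order of an element, in the local ring. -/
noncomputable def zetaR (M : Ideal AlgInt) [M.IsPrime] (m : ℕ) : locRing M :=
  if h : Complex.exp (2 * Real.pi * Complex.I / (m : ℂ)) ∈ locRing M then ⟨_, h⟩ else 0

theorem coe_zetaR {m : ℕ} (hm : 0 < m) :
    (zetaR M m : ℂ) = Complex.exp (2 * Real.pi * Complex.I / (m : ℂ)) := by
  rw [zetaR, dif_pos (mem_locRing_of_isIntegral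
    ((Complex.isPrimitiveRoot_exp m hm.ne').isIntegral hm))]

theorem isPrimitiveRoot_zetaR {m : ℕ} (hm : 0 < m) : IsPrimitiveRoot (zetaR M m) m :=
  IsPrimitiveRoot.of_map_of_injective (f := (locRing M).subtype)
    (by rw [Subring.coe_subtype, coe_zetaR hm]; exact Complex.isPrimitiveRoot_exp m hm.ne')
    Subtype.val_injective

/-- The inverse of a natural number in the local ring, where it exists. -/
noncomputable def invR (M : Ideal AlgInt) [M.IsPrime] (m : ℕ) : locRing M :=
  if h : (m : ℂ)⁻¹ ∈ locRing M then ⟨_, h⟩ else 0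

theorem invR_mul (hM : IsPModular p M) {m : ℕ} (hm : ¬ p ∣ m) :
    invR M m * (m : locRing M) = 1 := by
  rw [invR, dif_pos (show (m : ℂ)⁻¹ ∈ locRing M from inv_natCast_memLocalRing hM hm)]
  refine Subtype.ext ?_
  have : (m : ℂ) ≠ 0 := Nat.cast_ne_zero.2 fun h => hm (h ▸ dvd_zero p)
  show (m : ℂ)⁻¹ * ((m : locRing M) : ℂ) = 1
  simp [this]

/-- The idempotent of the eigenvalue `ζ ^ j` of an element, over the local ring. -/
noncomputable def eigR (M : Ideal AlgInt) [M.IsPrime] (u : G) (j : ℕ) :
    MonoidAlgebra (locRing M) G :=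
  invR M (orderOf u) • ∑ i ∈ Finset.range (orderOf u),
    MonoidAlgebra.single (u ^ i) (((zetaR M (orderOf u)) ^ (orderOf u - 1)) ^ (i * j))

theorem eigR_idem (hM : IsPModular p M) {u : G} (hu : ¬ p ∣ orderOf u) (j : ℕ) :
    eigR M u j * eigR M u j = eigR M u j := by
  have hm : 0 < orderOf u := orderOf_pos u
  set m := orderOf u with hmdef
  set η := (zetaR M m) ^ (m - 1) with hη
  set x : MonoidAlgebra (locRing M) G := MonoidAlgebra.single u (η ^ j) with hx
  have hηm : η ^ m = 1 := by
    rw [hη, ← pow_mul, mul_comm, pow_mul, (isPrimitiveRoot_zetaR hm).pow_eq_one, one_pow]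
  have hxi : ∀ i, MonoidAlgebra.single (u ^ i) (η ^ (i * j)) = x ^ i := fun i => by
    rw [hx, MonoidAlgebra.single_pow, mul_comm i, pow_mul]
  have hxm : x ^ m = 1 := by
    rw [← hxi, hmdef, pow_orderOf_eq_one, ← hmdef, pow_mul, hηm, one_pow, MonoidAlgebra.one_def]
  have he : eigR M u j = invR M m • ∑ i ∈ Finset.range m, x ^ i := by
    rw [eigR]
    congr 1
    exact Finset.sum_congr rfl fun i _ => hxi i
  set S := ∑ i ∈ Finset.range m, x ^ i with hS
  have h1 : x * S = S := by
    have h := mul_geom_sum x m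
    rw [hxm, sub_self, sub_mul, one_mul, sub_eq_zero] at h
    exact h
  have h2 : ∀ i, x ^ i * S = S := by
    intro i
    induction i with
    | zero => rw [pow_zero, one_mul]
    | succ i ih => rw [pow_succ, mul_assoc, h1, ih]
  have h3 : S * S = (m : locRing M) • S := by
    conv_lhs => arg 1; rw [hS]
    rw [Finset.sum_mul, Finset.sum_congr rfl fun i _ => h2 i, Finset.sum_const, Finset.card_range,
      ← Nat.cast_smul_eq_nsmul (locRing M)]
  rw [he, smul_mul_assoc, mul_smul_comm, h3, smul_smul (invR M m) (m : locRing M),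
    invR_mul hM hu, one_smul]

theorem sum_eigR (hM : IsPModular p M) {u : G} (hu : ¬ p ∣ orderOf u) :
    ∑ j ∈ Finset.range (orderOf u), zetaR M (orderOf u) ^ j • eigR M u j =
      MonoidAlgebra.single u 1 := by
  classical
  have hm : 0 < orderOf u := orderOf_pos u
  set m := orderOf u with hmdef
  set ζ := zetaR M m with hζdef
  have hζ := isPrimitiveRoot_zetaR (M := M) hm
  rw [← hζdef] at hζ
  simp only [eigR, ← hmdef, ← hζdef, Finset.smul_sum, MonoidAlgebra.smul_single, smul_eq_mul]
  rw [Finset.sum_comm, Finset.sum_eq_single (1 % m)]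
  · rw [hmdef, pow_mod_orderOf, pow_one, ← hmdef]
    have h1 : ∀ j, ζ ^ j * (invR M m * ((ζ ^ (m - 1)) ^ (1 % m * j))) = invR M m := fun j => by
      have : (ζ * (ζ ^ (m - 1)) ^ (1 % m)) = 1 := by
        rcases Nat.lt_or_ge 1 m with h | h
        · rw [Nat.mod_eq_of_lt h, pow_one, ← pow_succ', Nat.sub_add_cancel hm, hζ.pow_eq_one]
        · have h1 : m = 1 := by omega
          simp [show ζ = 1 by simpa [h1] using hζ.pow_eq_one]
      rw [mul_left_comm, pow_mul, ← mul_pow, this, one_pow, mul_one]
    rw [← Finset.sum_congr rfl fun j _ => congrArg (MonoidAlgebra.single u) (h1 j).symm]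
    refine gaExt fun a => ?_
    simp only [MonoidAlgebra.coeff_sum, Finset.sum_apply', MonoidAlgebra.coeff_single,
      Finsupp.single_apply]
    split_ifs <;> simp [mul_comm _ (invR M m), invR_mul hM hu]
  · intro i hi hne
    rw [Finset.mem_range] at hi
    have hw : (ζ * (ζ ^ (m - 1)) ^ i) ^ m = 1 := by
      rw [mul_pow, hζ.pow_eq_one, one_mul, ← pow_mul, ← pow_mul,
        show (m - 1) * (i * m) = m * ((m - 1) * i) by ring, pow_mul, hζ.pow_eq_one, one_pow]
    have hne1 : ζ * (ζ ^ (m - 1)) ^ i ≠ 1 := by
      intro h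
      have h2 : ζ ^ (1 % m) = ζ ^ i := by
        calc ζ ^ (1 % m) = ζ := by
              rcases Nat.lt_or_ge 1 m with h' | h'
              · rw [Nat.mod_eq_of_lt h', pow_one]
              · have h1 : m = 1 := by omega
                simp [show ζ = 1 by simpa [h1] using hζ.pow_eq_one]
          _ = ζ * (ζ ^ (m - 1) * ζ) ^ i := by
              rw [← pow_succ, Nat.sub_add_cancel hm, hζ.pow_eq_one, one_pow, mul_one]
          _ = ζ ^ i := by rw [mul_pow, ← mul_assoc, h, one_mul]
      exact hne (hζ.pow_inj (Nat.mod_lt _ hm) hi h2).symm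
    have hgeom : ∑ j ∈ Finset.range m, (ζ * (ζ ^ (m - 1)) ^ i) ^ j = 0 := by
      have h := mul_geom_sum (ζ * (ζ ^ (m - 1)) ^ i) m
      rw [hw, sub_self] at h
      exact (mul_eq_zero.1 h).resolve_left (sub_ne_zero.2 hne1)
    refine gaExt fun a => ?_
    simp only [MonoidAlgebra.coeff_sum, Finset.sum_apply', MonoidAlgebra.coeff_single,
      Finsupp.single_apply, MonoidAlgebra.coeff_zero, Finsupp.coe_zero, Pi.zero_apply]
    split_ifs
    · rw [show (0 : locRing M) = invR M m * ∑ j ∈ Finset.range m, (ζ * (ζ ^ (m - 1)) ^ i) ^ j by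
        rw [hgeom, mul_zero], Finset.mul_sum]
      exact Finset.sum_congr rfl fun j _ => by rw [mul_pow, pow_mul]; ring
    · simp
  · intro h
    exact absurd (Finset.mem_range.2 (Nat.mod_lt _ hm)) h

/-- The idempotent of an eigenvalue over the residue field. -/
noncomputable def eigK (M : Ideal AlgInt) [M.IsPrime] (u : G) (j : ℕ) :
    MonoidAlgebra (resField M) G :=
  resG (eigR M u j)

theorem eigK_idem (hM : IsPModular p M) {u : G} (hu : ¬ p ∣ orderOf u) (j : ℕ) :
    eigK M u j * eigK M u j = eigK M u j := by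
  rw [eigK, ← map_mul, eigR_idem hM hu]

theorem sum_eigK (hM : IsPModular p M) {u : G} (hu : ¬ p ∣ orderOf u) :
    ∑ j ∈ Finset.range (orderOf u), res M (zetaR M (orderOf u)) ^ j • eigK M u j =
      MonoidAlgebra.single u 1 := by
  have h := congrArg (resG (M := M)) (sum_eigR hM hu)
  rw [map_sum] at h
  refine Eq.trans (Finset.sum_congr rfl fun j _ => ?_) (h.trans ?_)
  · rw [resG_smul, map_pow]; rfl
  · classical
    refine gaExt fun a => ?_
    simp [coeff_resG, Finsupp.single_apply, apply_ite (res M)]

theorem eigK_map (α : G ≃* G) (u : G) (j : ℕ) :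
    MonoidAlgebra.domCongr (resField M) (resField M) α (eigK M u j) = eigK M (α u) j := by
  rw [eigK, eigK, eigR, eigR, MulEquiv.orderOf_eq, resG_smul, resG_smul, map_smul, map_sum,
    map_sum, map_sum]
  congr 1
  refine Finset.sum_congr rfl fun i _ => ?_
  classical
  refine gaExt fun a => ?_
  simp [coeff_resG, Finsupp.single_apply, apply_ite (res M), map_pow, MulEquiv.eq_symm_apply]

variable {V : Type v} [AddCommGroup V] [Module (resField M) V]

/-- The multiplicity of an eigenvalue. -/
noncomputable def eigMult (F : MonoidAlgebra (resField M) G →ₐ[resField M] Module.End (resField M) V)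
    (u : G) (j : ℕ) : ℕ :=
  Module.finrank (resField M) (LinearMap.range (F (eigK M u j)))

/-- The Brauer character of a representation, extended by zero. -/
noncomputable def br (p : ℕ)
    (F : MonoidAlgebra (resField M) G →ₐ[resField M] Module.End (resField M) V) : G → ℂ :=
  fun u => if ¬ p ∣ orderOf u then
    ∑ j ∈ Finset.range (orderOf u), (eigMult F u j : ℂ) * (zetaR M (orderOf u) : ℂ) ^ j else 0

theorem br_comp (F : MonoidAlgebra (resField M) G →ₐ[resField M] Module.End (resField M) V)
    (α : G ≃* G) (u : G) :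
    br p (F.comp (MonoidAlgebra.domCongr (resField M) (resField M) α).toAlgHom) u =
      br p F (α u) := by
  simp only [br, eigMult, MulEquiv.orderOf_eq]
  congr 1
  refine Finset.sum_congr rfl fun j _ => ?_
  rw [← eigK_map α u j]
  rfl

theorem br_one (hp : p ≠ 1)
    (F : MonoidAlgebra (resField M) G →ₐ[resField M] Module.End (resField M) V) :
    br p F 1 = Module.finrank (resField M) V := by
  have h1 : ¬ p ∣ orderOf (1 : G) := by simp [hp]
  rw [br, if_pos h1, orderOf_one, Finset.sum_range_one, pow_zero, mul_one, eigMult]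
  have he : eigK M (1 : G) 0 = 1 := by
    have hinv : invR M 1 = 1 := by
      refine Subtype.ext ?_
      rw [invR, dif_pos]
      · simp
      · rw [Nat.cast_one, inv_one]; exact (locRing M).one_mem
    simp [eigK, eigR, hinv, ← MonoidAlgebra.one_def]
  rw [he, map_one, Nat.cast_inj, LinearMap.range_eq_top.2 (fun x => ⟨x, rfl⟩), finrank_top]

section Trace

variable [FiniteDimensional (resField M) V]

/-- The trace of an idempotent is its rank, in any characteristic. -/
theorem trace_idem {k : Type*} [Field k] {n : ℕ} {X : Matrix (Fin n) (Fin n) k} (hX : X * X = X) :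
    X.trace = (X.rank : k) := by
  obtain ⟨A, B, hAB, hBA⟩ := exists_rank_factor hX
  refine (congrArg Matrix.trace hAB.symm).trans ?_
  rw [Matrix.trace_mul_comm, hBA, Matrix.trace_one, Fintype.card_fin]

end Trace

/-- The representation on coordinates attached to a matrix representation. -/
noncomputable def ofMat {n : ℕ}
    (f : MonoidAlgebra (resField M) G →ₐ[resField M] Matrix (Fin n) (Fin n) (resField M)) :
    MonoidAlgebra (resField M) G →ₐ[resField M] Module.End (resField M) (Fin n → resField M) :=
  (Matrix.toLinAlgEquiv' (R := resField M) (n := Fin n)).toAlgHom.comp f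

theorem eigMult_ofMat {n : ℕ}
    (f : MonoidAlgebra (resField M) G →ₐ[resField M] Matrix (Fin n) (Fin n) (resField M))
    (u : G) (j : ℕ) : eigMult (ofMat f) u j = (f (eigK M u j)).rank := rfl

theorem res_br (hM : IsPModular p M) {n : ℕ}
    (f : MonoidAlgebra (resField M) G →ₐ[resField M] Matrix (Fin n) (Fin n) (resField M))
    {u : G} (hu : ¬ p ∣ orderOf u) :
    ∃ z : locRing M, (z : ℂ) = br p (ofMat f) u ∧
      res M z = (f (MonoidAlgebra.single u 1)).trace := by
  refine ⟨∑ j ∈ Finset.range (orderOf u),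
    (eigMult (ofMat f) u j : locRing M) * zetaR M (orderOf u) ^ j, ?_, ?_⟩
  · rw [br, if_pos hu]
    push_cast
    rfl
  · rw [← sum_eigK hM hu, map_sum, map_sum, Matrix.trace_sum]
    refine Finset.sum_congr rfl fun j _ => ?_
    rw [map_smul, Matrix.trace_smul,
      trace_idem (by rw [← map_mul, eigK_idem hM hu]), eigMult_ofMat, map_mul, map_natCast,
      map_pow, smul_eq_mul, mul_comm]

end Cfsg.Agent.BrauerChar
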