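/-
The local ring at a modular ideal meets every number field in a valuation ring; integral forms of
the irreducible representations over it.
-/
import Cfsg.Agent.Lib.Blocks.LocalRing
import Cfsg.Agent.Lib.Char.SplittingField
import Mathlib.NumberTheory.NumberField.Basic
import Mathlib.RingTheory.DedekindDomain.Dvr
import Mathlib.RingTheory.Valuation.ValuationSubring

set_option linter.unusedSectionVars false
set_option linter.style.haveILetI false

namespace Cfsg.Agent.BrauerChar

open Cfsg Cfsg.Agent.Blocks

universe u

variable {M : Ideal AlgInt} [M.IsPrime]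

/-- The map of the integers of a number field into the algebraic integers. -/
noncomputable def toAI (F : IntermediateField ℚ ℂ) : NumberField.RingOfIntegers F →+* AlgInt where
  toFun a := ⟨((a : F) : ℂ), (map_isIntegral_int F.val.toRingHom (NumberField.RingOfIntegers.isIntegral_coe a))⟩
  map_one' := Subtype.ext (by simp)
  map_mul' _ _ := Subtype.ext (by simp)
  map_zero' := Subtype.ext (by simp)
  map_add' _ _ := Subtype.ext (by simp)

/-- An element of a number field or its inverse lies in the local ring. -/
theorem mem_or_inv_mem (F : IntermediateField ℚ ℂ) [FiniteDimensional ℚ F] (z : F) :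
    (z : ℂ) ∈ locRing M ∨ ((z⁻¹ : F) : ℂ) ∈ locRing M := by
  haveI : NumberField F := { }
  let A := NumberField.RingOfIntegers F
  let P : Ideal A := M.comap (toAI F)
  haveI : P.IsPrime := Ideal.IsPrime.comap _
  let L := Localization.AtPrime P
  haveI : ValuationRing L := by
    rcases eq_or_ne P ⊥ with h | h
    · haveI : IsFractionRing A L := by
        show IsLocalization (nonZeroDivisors A) L
        have : nonZeroDivisors A = P.primeCompl := by
          ext x; simp [h, Ideal.primeCompl]
        rw [this]; infer_instance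
      letI : Field L := IsFractionRing.toField A
      infer_instance
    · haveI := IsLocalization.AtPrime.isDiscreteValuationRing_of_dedekind_domain A h L
      infer_instance
  obtain ⟨a, b, hb, hab⟩ := IsFractionRing.div_surjective A z
  have key : ∀ a b : A, b ≠ 0 → algebraMap A L b ∣ algebraMap A L a →
      (((a : F) / (b : F) : F) : ℂ) ∈ locRing M := by
    intro a b hb0 hd
    obtain ⟨c, hc⟩ := hd
    obtain ⟨⟨x, s⟩, hxs⟩ := IsLocalization.surj P.primeCompl c
    have h1 : algebraMap A L (a * s) = algebraMap A L (b * x) := by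
      rw [map_mul, map_mul, hc, ← hxs]; ring
    obtain ⟨t, ht⟩ := (IsLocalization.eq_iff_exists P.primeCompl L).1 h1
    have ht0 : (t : A) ≠ 0 := fun h => t.2 (h ▸ P.zero_mem)
    have hs0 : (s : A) ≠ 0 := fun h => s.2 (h ▸ P.zero_mem)
    have h2 : a * (s : A) = b * x := mul_left_cancel₀ ht0 ht
    have h3 : (a : F) / (b : F) = (x : F) / ((s : A) : F) := by
      have hb' : (b : F) ≠ 0 := by simpa using hb0
      have hs' : ((s : A) : F) ≠ 0 := by simpa using hs0
      field_simp
      have := congrArg (fun y : A => (y : F)) h2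
      push_cast at this
      linear_combination this
    rw [h3]
    exact mem_locRing.2 ⟨toAI F x, toAI F (s : A), fun h => s.2 h, by simp [toAI]⟩
  have hb0 : b ≠ 0 := nonZeroDivisors.ne_zero hb
  rcases eq_or_ne a 0 with ha | ha
  · left; rw [← hab, ha]; simp
  rcases ValuationRing.dvd_total (algebraMap A L a) (algebraMap A L b) with h | h
  · right
    rw [← hab, inv_div]
    exact key b a ha h
  · left
    rw [← hab]
    exact key a b hb0 h

/-- The valuation ring cut out on a number field. -/
noncomputable def locVal (M : Ideal AlgInt) [M.IsPrime] (F : IntermediateField ℚ ℂ)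
    [FiniteDimensional ℚ F] : ValuationSubring F :=
  ValuationSubring.ofSubring ((locRing M).comap F.val.toRingHom) fun z => mem_or_inv_mem F z

theorem coe_locVal (F : IntermediateField ℚ ℂ) [FiniteDimensional ℚ F] (z : locVal M F) :
    ((z : F) : ℂ) ∈ locRing M := z.2

/-- An integral form over a valuation ring. -/
theorem exists_integral_form {G : Type u} [Group G] [Fintype G] {K : Type*} [Field K]
    (V : ValuationSubring K) {d : ℕ}
    (ρ : Representation K G (Fin d → K)) :
    ∃ m : G →* Matrix (Fin d) (Fin d) V,
      ∀ g, (((m g).map (fun x : V => (x : K))).trace) = LinearMap.trace K _ (ρ g) := by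
  classical
  set S₀ : Finset (Fin d → K) := Finset.univ.image fun z : G × Fin d => ρ z.1 (Pi.single z.2 1)
    with hS₀
  set L := Submodule.span V (S₀ : Set (Fin d → K)) with hL
  have hne : ((S₀.powerset).filter fun T : Finset (Fin d → K) =>
      Submodule.span V (T : Set (Fin d → K)) = L).Nonempty :=
    ⟨S₀, Finset.mem_filter.2 ⟨Finset.mem_powerset.2 subset_rfl, rfl⟩⟩
  obtain ⟨T, hT, hmin⟩ := Finset.exists_min_image _ Finset.card hne
  obtain ⟨hTsub, hTspan⟩ := Finset.mem_filter.1 hT
  rw [Finset.mem_powerset] at hTsub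
  have hli : LinearIndependent K fun t : T => (t : Fin d → K) := by
    rw [Fintype.linearIndependent_iff]
    intro c hc
    by_contra hne0
    push Not at hne0
    obtain ⟨x₀, -, hmax⟩ := Finset.exists_max_image Finset.univ (fun x => V.valuation (c x))
      ⟨hne0.choose, Finset.mem_univ _⟩
    have hx₀ : c x₀ ≠ 0 := by
      intro h
      obtain ⟨i, hi⟩ := hne0
      have := hmax i (Finset.mem_univ _)
      rw [h, map_zero, le_zero_iff, map_eq_zero] at this
      exact hi this
    have ha : ∀ x, c x * (c x₀)⁻¹ ∈ V := fun x => by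
      rw [← ValuationSubring.valuation_le_one_iff, map_mul, map_inv₀]
      refine (mul_inv_le_iff₀ (zero_lt_iff.2 ((_root_.map_ne_zero V.valuation).2 hx₀))).2 ?_
      rw [one_mul]; exact hmax x (Finset.mem_univ _)
    set T' := T.erase (x₀ : Fin d → K) with hT'
    have hx : (x₀ : Fin d → K) ∈ Submodule.span V (T' : Set (Fin d → K)) := by
      have e : (x₀ : Fin d → K) =
          ∑ x ∈ Finset.univ.erase x₀, (-(⟨_, ha x⟩ : V)) • (x : Fin d → K) := by
        have h1 := congrArg ((c x₀)⁻¹ • ·) hc
        simp only [Finset.smul_sum, smul_smul, smul_zero] at h1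
        rw [← Finset.add_sum_erase _ _ (Finset.mem_univ x₀), inv_mul_cancel₀ hx₀, one_smul,
          add_eq_zero_iff_eq_neg, ← Finset.sum_neg_distrib] at h1
        refine h1.trans (Finset.sum_congr rfl fun x _ => ?_)
        rw [neg_smul, mul_comm]
        rfl
      rw [e]
      refine sum_mem fun x hx => Submodule.smul_mem _ _ (Submodule.subset_span ?_)
      exact Finset.mem_coe.2 (Finset.mem_erase.2
        ⟨fun h => (Finset.mem_erase.1 hx).1 (Subtype.ext h), x.2⟩)
    have hspan' : Submodule.span V (T' : Set (Fin d → K)) = L := by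
      rw [← hTspan]
      refine le_antisymm (Submodule.span_mono (Finset.coe_subset.2 (Finset.erase_subset _ _)))
        (Submodule.span_le.2 fun z hz => ?_)
      by_cases h : z = (x₀ : Fin d → K)
      · rw [h]; exact hx
      · exact Submodule.subset_span (Finset.mem_erase.2 ⟨h, hz⟩)
    have := hmin T' (Finset.mem_filter.2
      ⟨Finset.mem_powerset.2 ((Finset.erase_subset _ _).trans hTsub), hspan'⟩)
    rw [Finset.card_erase_of_mem x₀.2] at this
    have := Finset.card_pos.2 ⟨_, x₀.2⟩
    omega
  have hsub : ∀ z ∈ L, z ∈ Submodule.span K (T : Set (Fin d → K)) := by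
    intro z hz
    rw [← hTspan] at hz
    exact Submodule.span_le_restrictScalars V K _ hz
  have hbasis : ∀ g i, ρ g (Pi.single i 1) ∈ L := fun g i =>
    Submodule.subset_span (Finset.mem_coe.2 (Finset.mem_image.2 ⟨(g, i), Finset.mem_univ _, rfl⟩))
  have htop : ⊤ ≤ Submodule.span K (Set.range fun t : T => (t : Fin d → K)) := by
    rw [← (Pi.basisFun K (Fin d)).span_eq, Submodule.span_le]
    rintro _ ⟨i, rfl⟩
    have := hsub _ (hbasis 1 i)
    rw [map_one, Module.End.one_apply] at this
    simpa [Pi.basisFun_apply] using this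
  set b := Module.Basis.mk hli htop with hb
  have hcard : Fintype.card T = d := by
    have := Module.finrank_eq_card_basis b
    simpa using this.symm
  set e := Fintype.equivFinOfCardEq hcard with he
  set bb := b.reindex e with hbb
  have hcoef : ∀ g i j, LinearMap.toMatrix bb bb (ρ g) i j ∈ V := by
    intro g i j
    have hbj : bb j = ((e.symm j : T) : Fin d → K) := by
      rw [hbb, Module.Basis.reindex_apply, hb, Module.Basis.mk_apply]
    have hmem : ρ g (bb j) ∈ L := by
      rw [hbj]
      obtain ⟨⟨h, l⟩, -, hl⟩ := Finset.mem_image.1 (hTsub (e.symm j).2)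
      rw [← hl, ← Module.End.mul_apply, ← map_mul]
      exact hbasis _ _
    rw [← hTspan] at hmem
    obtain ⟨a, ha⟩ := (Submodule.mem_span_range_iff_exists_fun V).1 (by
      have hr : (Set.range fun t : T => (t : Fin d → K)) = (T : Set (Fin d → K)) := by
        ext z; simp
      rw [hr]; exact hmem :
        ρ g (bb j) ∈ Submodule.span V (Set.range fun t : T => (t : Fin d → K)))
    have e2 : ρ g (bb j) = ∑ t : T, ((a t : V) : K) • bb (e t) := by
      rw [← ha]
      refine Finset.sum_congr rfl fun t _ => ?_
      rw [hbb, Module.Basis.reindex_apply, Equiv.symm_apply_apply, hb, Module.Basis.mk_apply]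
      rfl
    rw [LinearMap.toMatrix_apply, e2, map_sum, Finset.sum_apply']
    refine sum_mem fun t _ => ?_
    rw [map_smul, Module.Basis.repr_self, Finsupp.smul_single, smul_eq_mul, mul_one,
      Finsupp.single_apply]
    split_ifs
    · exact (a t).2
    · exact zero_mem _
  let m₀ : G → Matrix (Fin d) (Fin d) V := fun g => Matrix.of fun i j => ⟨_, hcoef g i j⟩
  have hm₀ : ∀ g, (m₀ g).map (fun x : V => (x : K)) = LinearMap.toMatrix bb bb (ρ g) := fun g => rfl
  have hinj : Function.Injective fun A : Matrix (Fin d) (Fin d) V => A.map (fun x : V => (x : K)) :=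
    fun A B h => Matrix.ext fun i j => Subtype.ext (congrFun (congrFun h i) j)
  let m : G →* Matrix (Fin d) (Fin d) V :=
    { toFun := m₀
      map_one' := hinj (by
        show (m₀ 1).map _ = (1 : Matrix (Fin d) (Fin d) V).map _
        rw [hm₀, map_one, LinearMap.toMatrix_one, Matrix.map_one _ rfl rfl])
      map_mul' := fun x y => hinj (by
        show (m₀ (x * y)).map _ = (m₀ x * m₀ y).map _
        rw [hm₀, map_mul, LinearMap.toMatrix_mul,
          show ((m₀ x * m₀ y).map fun x : V => (x : K)) = (m₀ x).map V.subtype * (m₀ y).map V.subtype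
            from Matrix.map_mul (f := V.subtype)]
        rfl) }
  refine ⟨m, fun g => ?_⟩
  show ((m₀ g).map _).trace = _
  rw [hm₀, LinearMap.trace_eq_matrix_trace K bb]

/-- Every irreducible character is afforded over the local ring. -/
theorem exists_rep_locRing {G : Type u} [Group G] [Fintype G] (χ : IrrCharacter G) :
    ∃ (d : ℕ) (m : G →* Matrix (Fin d) (Fin d) (locRing M)),
      ∀ g, ((m g).trace : ℂ) = (χ : G → ℂ) g := by
  obtain ⟨n, ρ, -, hρ⟩ := χ.2
  obtain ⟨σ, ⟨e⟩, hσ⟩ := Cfsg.Agent.Char.Splitting.brauer_splitting n ρ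
  set ζ := Complex.exp (2 * Real.pi * Complex.I / (Monoid.exponent G : ℂ)) with hζ
  have he : 0 < Monoid.exponent G := Nat.pos_of_ne_zero Monoid.exponent_ne_zero_of_finite
  let F := IntermediateField.adjoin ℚ ({ζ} : Set ℂ)
  haveI : FiniteDimensional ℚ F := IntermediateField.adjoin.finiteDimensional
    ((Complex.isPrimitiveRoot_exp _ he.ne').isIntegral he).tower_top
  have hF : ∀ g i j, LinearMap.toMatrix' (σ g) i j ∈ F := fun g i j =>
    IntermediateField.algebra_adjoin_le_adjoin ℚ _ (hσ g i j)
  let A : G → Matrix (Fin n) (Fin n) F := fun g => Matrix.of fun i j => ⟨_, hF g i j⟩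
  have hA : ∀ g, (A g).map F.val = LinearMap.toMatrix' (σ g) := fun g => rfl
  have hinj : Function.Injective fun X : Matrix (Fin n) (Fin n) F => X.map F.val :=
    Matrix.map_injective F.val.injective
  let σF : Representation F G (Fin n → F) :=
    { toFun := fun g => Matrix.toLin' (A g)
      map_one' := by
        have : A 1 = 1 := hinj (by
          show (A 1).map F.val = (1 : Matrix (Fin n) (Fin n) F).map F.val
          rw [hA, map_one, Module.End.one_eq_id, LinearMap.toMatrix'_id, Matrix.map_one _ rfl rfl])
        rw [this, Matrix.toLin'_one]; rfl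
      map_mul' := fun x y => by
        have : A (x * y) = A x * A y := hinj (by
          show (A (x * y)).map F.val = (A x * A y).map F.val
          rw [Matrix.map_mul, hA, hA, hA, map_mul, LinearMap.toMatrix'_mul])
        rw [this, Matrix.toLin'_mul]; rfl }
  obtain ⟨m, hm⟩ := exists_integral_form (locVal M F) σF
  let ι : locVal M F →+* locRing M :=
    (F.val.toRingHom.comp (locVal M F).subtype).codRestrict (locRing M) fun z => coe_locVal F z
  refine ⟨n, ι.mapMatrix.toMonoidHom.comp m, fun g => ?_⟩
  have h1 := hm g
  have h2 : LinearMap.trace F _ (σF g) = (A g).trace := Matrix.trace_toLin'_eq _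
  rw [h2] at h1
  have h3 : ((ι.mapMatrix (m g)).trace : ℂ) = (((A g).trace : F) : ℂ) := by
    rw [← h1]
    simp [Matrix.trace, ι]
  rw [RingHom.toMonoidHom_eq_coe, MonoidHom.coe_comp, Function.comp_apply]
  refine h3.trans ?_
  have h4 : (((A g).trace : F) : ℂ) = (LinearMap.toMatrix' (σ g)).trace := by
    rw [← hA]
    simp [Matrix.trace]
  rw [h4, ← hρ]
  show _ = LinearMap.trace ℂ _ (ρ g)
  have h5 : LinearMap.trace ℂ _ (σ g) = LinearMap.trace ℂ _ (ρ g) :=
    congrFun (Representation.char_iso e).symm g
  rw [← h5, LinearMap.trace_eq_matrix_trace ℂ (Pi.basisFun ℂ (Fin n)), ← LinearMap.toMatrix_eq_toMatrix']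

end Cfsg.Agent.BrauerChar
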