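/-
The Brauer characters of the simple modules of a block form a basis of the space spanned by the
restrictions of the characters of the block to the regular elements.
-/
import Cfsg.Agent.Lib.BrauerChar.Eig
import Cfsg.Agent.Lib.BrauerChar.LocVal
import Cfsg.Agent.Lib.BlockAlg.BlockSimples
import Cfsg.Agent.Lib.Blocks.Subsections

set_option linter.unusedSectionVars false
set_option linter.style.haveILetI false

namespace Cfsg.Agent.BrauerChar

open Cfsg MonoidAlgebra Cfsg.Agent.Blocks Cfsg.Agent.BrauerPairs
open scoped ComplexConjugate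

universe u v

variable {G : Type u} [Group G] [Fintype G] {M : Ideal AlgInt} [M.IsPrime] {p : ℕ}

section Expand

variable {r : ℕ} {d : Fin r → ℕ}

/-- A component of a map to a product of matrix algebras. -/
noncomputable def comp
    (q : MonoidAlgebra (resField M) G →ₐ[resField M]
      (Π i, Matrix (Fin (d i)) (Fin (d i)) (resField M))) (l : Fin r) :
    MonoidAlgebra (resField M) G →ₐ[resField M] Matrix (Fin (d l)) (Fin (d l)) (resField M) :=
  (Pi.evalAlgHom (resField M) (fun i => Matrix (Fin (d i)) (Fin (d i)) (resField M)) l).comp q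

theorem comp_apply
    (q : MonoidAlgebra (resField M) G →ₐ[resField M]
      (Π i, Matrix (Fin (d i)) (Fin (d i)) (resField M))) (l : Fin r)
    (x : MonoidAlgebra (resField M) G) : comp q l x = q x l := rfl

/-- The system of simple components of a group algebra. -/
structure Sys (M : Ideal AlgInt) [M.IsPrime] (G : Type u) [Group G] [Fintype G] where
  r : ℕ
  d : Fin r → ℕ
  q : MonoidAlgebra (resField M) G →ₐ[resField M]
      (Π i, Matrix (Fin (d i)) (Fin (d i)) (resField M))
  J : Submodule (resField M) (MonoidAlgebra (resField M) G)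
  N : ℕ
  pos : ∀ i, 0 < d i
  surj : Function.Surjective q
  nil : J ^ N = ⊥
  ker : ∀ x, q x = 0 → x ∈ J

/-- The Brauer character of a simple component. -/
noncomputable def Sys.beta (S : Sys M G) (p : ℕ) (l : Fin S.r) : G → ℂ :=
  br p (ofMat (comp S.q l))

/-- A representation of a block has only constituents of the block. -/
theorem Sys.exists_expand (hM : IsPModular p M) (S : Sys M G) {V : Type v} [AddCommGroup V]
    [Module (resField M) V] [FiniteDimensional (resField M) V]
    (F : MonoidAlgebra (resField M) G →ₐ[resField M] Module.End (resField M) V) :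
    ∃ c : Fin S.r → ℕ, (∀ u, br p F u = ∑ l, (c l : ℂ) * S.beta p l u) ∧
      ∀ e, e * e = e → F e = 1 → ∀ l, S.q e l = 0 → c l = 0 := by
  obtain ⟨c, hc⟩ := exists_mult S.pos S.q S.surj S.J S.N S.nil S.ker F
  refine ⟨c, fun u => ?_, fun e he hF l hl => ?_⟩
  · by_cases hu : p ∣ orderOf u
    · simp [Sys.beta, br, hu]
    · simp only [Sys.beta, br, hu, not_false_eq_true, if_true, eigMult_ofMat, comp_apply]
      have h := fun j => hc (eigK M u j) (eigK_idem hM hu j)
      simp only [eigMult, h, Finset.mul_sum, Nat.cast_sum, Nat.cast_mul, Finset.sum_mul]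
      rw [Finset.sum_comm]
      exact Finset.sum_congr rfl fun l _ => Finset.sum_congr rfl fun j _ => by ring
  · have h1 := hc 1 (one_mul 1)
    have h2 := hc e he
    rw [hF] at h2
    rw [map_one] at h1
    rw [h2] at h1
    simp only [map_one, Pi.one_apply, Matrix.rank_one, Fintype.card_fin] at h1
    have hle : ∀ i ∈ (Finset.univ : Finset (Fin S.r)), c i * (S.q e i).rank ≤ c i * S.d i :=
      fun i _ => Nat.mul_le_mul_left _
        (((S.q e i).rank_le_card_width).trans_eq (Fintype.card_fin _))
    have h3 := (Finset.sum_eq_sum_iff_of_le hle).1 h1 l (Finset.mem_univ l)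
    rw [hl, Matrix.rank_zero, mul_zero] at h3
    exact (Nat.mul_eq_zero.1 h3.symm).resolve_right (S.pos l).ne'

end Expand

section Reduction

/-- The reduction of a representation over the local ring on the group algebra. -/
theorem res_lift {n : ℕ} (m : G →* Matrix (Fin n) (Fin n) (locRing M))
    (x : MonoidAlgebra (locRing M) G) :
    MonoidAlgebra.lift (resField M) (Matrix (Fin n) (Fin n) (resField M)) G
        ((res M).mapMatrix.toMonoidHom.comp m) (resG x) =
      (MonoidAlgebra.lift (locRing M) (Matrix (Fin n) (Fin n) (locRing M)) G m x).map (res M) := by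
  classical
  induction x using MonoidAlgebra.induction_linear with
  | zero => simp
  | add a b ha hb => rw [map_add, map_add, ha, hb, map_add, Matrix.map_add _ (map_add (res M))]
  | single g c =>
    have hs : resG (MonoidAlgebra.single g c : MonoidAlgebra (locRing M) G) =
        MonoidAlgebra.single g (res M c) :=
      gaExt fun a => by simp [coeff_resG, Finsupp.single_apply, apply_ite (res M)]
    rw [hs, MonoidAlgebra.lift_single, MonoidAlgebra.lift_single]
    ext i j
    simp

/-- The reduction of an irreducible character. -/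
theorem exists_red (hM : IsPModular p M) (χ : IrrCharacter G) :
    ∃ (n : ℕ) (f : MonoidAlgebra (resField M) G →ₐ[resField M]
        Matrix (Fin n) (Fin n) (resField M)),
      (∀ u : G, ¬ p ∣ orderOf u → br p (ofMat f) u = (χ : G → ℂ) u) ∧
      ∀ B : Set (IrrCharacter G), IsPBlock M B → χ ∈ B → f (Ek M B) = 1 := by
  classical
  obtain ⟨n, m, hm⟩ := exists_rep_locRing (M := M) χ
  let φR := MonoidAlgebra.lift (locRing M) (Matrix (Fin n) (Fin n) (locRing M)) G m
  let i : locRing M →+* ℂ := (locRing M).subtype
  have hmt : ∀ A : Matrix (Fin n) (Fin n) (locRing M), (A.map i).trace = i A.trace := fun A => by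
    simp [Matrix.trace, map_sum]
  have htr : ∀ x, (((φR x).map i).trace) = ∑ g, (x.coeff g : ℂ) * (χ : G → ℂ) g := by
    intro x
    have : φR x = ∑ g, x.coeff g • m g := by
      simp only [φR]
      rw [MonoidAlgebra.lift_apply, Finsupp.sum_fintype _ _ (by simp)]
    rw [this, hmt, Matrix.trace_sum, map_sum]
    refine Finset.sum_congr rfl fun g _ => ?_
    rw [Matrix.trace_smul, smul_eq_mul]
    show i (_ * _) = _
    rw [map_mul, ← hm]
    rfl
  refine ⟨n, MonoidAlgebra.lift (resField M) (Matrix (Fin n) (Fin n) (resField M)) G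
    ((res M).mapMatrix.toMonoidHom.comp m), fun u hu => ?_, fun B hB hχ => ?_⟩
  · let E : ℕ → Matrix (Fin n) (Fin n) (locRing M) := fun j => φR (eigR M u j)
    have hE : ∀ j, E j * E j = E j := fun j => by
      simp only [E]; rw [← map_mul, eigR_idem hM hu]
    have hrank : ∀ j, ((E j).map i).trace = (((E j).map (res M)).rank : ℂ) := fun j => by
      rw [trace_idem (k := ℂ) (by rw [← Matrix.map_mul, hE])]
      congr 1
      exact (BlockAlg.rank_residue_eq i (hE j)).symm
    have h1 : (χ : G → ℂ) u = ∑ j ∈ Finset.range (orderOf u),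
        (zetaR M (orderOf u) : ℂ) ^ j * ((E j).map i).trace := by
      have h := htr (MonoidAlgebra.single u 1)
      rw [Finset.sum_eq_single u (fun g _ hg => by simp [hg, Ne.symm hg]) (by simp)] at h
      simp only [MonoidAlgebra.coeff_single, Finsupp.single_eq_same, OneMemClass.coe_one,
        one_mul] at h
      rw [← h, ← sum_eigR hM hu, map_sum, hmt, Matrix.trace_sum, map_sum]
      refine Finset.sum_congr rfl fun j _ => ?_
      rw [map_smul, Matrix.trace_smul, smul_eq_mul]
      show i (_ * _) = _
      rw [map_mul, map_pow, hmt]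
      rfl
    rw [h1, br, if_pos hu]
    refine Finset.sum_congr rfl fun j _ => ?_
    rw [hrank, mul_comm, eigMult_ofMat, eigK, res_lift]
  · let E : Matrix (Fin n) (Fin n) (locRing M) := φR (blockEltR M B)
    have hE : E * E = E := by simp only [E]; rw [← map_mul, blockEltR_idem hB]
    have h1 : (E.map i).trace = (χ : G → ℂ) 1 := by
      simp only [E]
      rw [htr]
      have h := omega_blockElt B χ
      rw [if_pos hχ, omega, div_eq_one_iff_eq (irr_one_ne_zero χ)] at h
      rw [← h]
      exact Finset.sum_congr rfl fun g _ => by rw [← toC_blockEltR hB, coeff_toC]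
    have h2 : (χ : G → ℂ) 1 = n := by
      have h := hm 1
      rw [map_one, Matrix.trace_one, Fintype.card_fin] at h
      rw [← h]
      simp
    have hEi : E.map i * E.map i = E.map i := by rw [← Matrix.map_mul, hE]
    have h3 : (1 - E.map i).rank = 0 := by
      have h := trace_idem (k := ℂ) (X := 1 - E.map i)
        (by simp [mul_sub, sub_mul, hEi])
      rw [Matrix.trace_sub, Matrix.trace_one, Fintype.card_fin, h1, h2, sub_self] at h
      exact_mod_cast h.symm
    have h4 : E = 1 := by
      refine Matrix.map_injective (f := i) Subtype.val_injective ?_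
      show E.map i = (1 : Matrix (Fin n) (Fin n) (locRing M)).map i
      rw [Matrix.map_one i (map_zero i) (map_one i)]
      refine (sub_eq_zero.1 ?_).symm
      obtain ⟨A, C, hAC, -⟩ := exists_rank_factor (X := 1 - E.map i)
        (by simp [mul_sub, sub_mul, hEi])
      refine hAC.symm.trans ?_
      ext a b
      rw [Matrix.mul_apply, Matrix.zero_apply]
      refine Finset.sum_eq_zero fun j _ => absurd j.2 ?_
      omega
    rw [Ek, res_lift, show φR (blockEltR M B) = 1 from h4,
      Matrix.map_one (res M) (map_zero _) (map_one _)]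

end Reduction

/-! ## The space of a block -/

/-- The span of the restrictions of the characters of a block to the regular elements. -/
noncomputable def regSpan (p : ℕ) (B : Set (IrrCharacter G)) : Submodule ℂ (G → ℂ) :=
  Submodule.span ℂ ((fun χ : IrrCharacter G => pRegularPart p (χ : G → ℂ)) '' B)

/-- Functions in the span of one block are orthogonal on regular elements to another block. -/
theorem sum_regular_eq_zero (hM : IsPModular p M) {B B' : Set (IrrCharacter G)}
    (hB : IsPBlock M B) (hB' : IsPBlock M B') (hne : B ≠ B') {f : G → ℂ} (hf : f ∈ regSpan p B')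
    {χ : IrrCharacter G} (hχ : χ ∈ B) : ∑ u, f u * conj ((χ : G → ℂ) u) = 0 := by
  classical
  induction hf using Submodule.span_induction with
  | mem f hf =>
    obtain ⟨ψ, hψ, rfl⟩ := hf
    have hd := Set.disjoint_left.1 (isPBlock_disjoint hB hB' hne) hχ
    have hG : (Nat.card G : ℂ) ≠ 0 := Nat.cast_ne_zero.2 Nat.card_pos.ne'
    -- the singular values of the projection onto the block of `ψ` vanish
    have hkey : ∀ v, pRegularPart p (ψ : G → ℂ) v =
        (Nat.card G : ℂ)⁻¹ * ∑ x, pRegularPart p (ψ : G → ℂ) x * blockPair B' v x := by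
      intro v
      by_cases hv : p ∣ orderOf v
      · symm
        rw [show pRegularPart p (ψ : G → ℂ) v = 0 by simp [pRegularPart, IsPRegular, hv]]
        rw [mul_eq_zero]
        right
        refine Finset.sum_eq_zero fun x _ => ?_
        by_cases hx : p ∣ orderOf x
        · simp [pRegularPart, IsPRegular, hx]
        · rw [← blockPair_conj, blockPair_regular_singular hM hB' hx hv, map_zero, mul_zero]
      · have h2 : blockPart B' (ψ : G → ℂ) = (ψ : G → ℂ) :=
          classInner_blockPart_self B' (Cfsg.Agent.Char.IsCharacter.isClassFunction (irr_isCharacter ψ))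
            fun η hη => Cfsg.Agent.Char.classInner_irr_of_ne ψ.2 η.2 fun h => hη (by rwa [← Subtype.ext h])
        rw [show pRegularPart p (ψ : G → ℂ) v = (ψ : G → ℂ) v by
          simp [pRegularPart, IsPRegular, hv]]
        rw [← congrFun h2 v, blockPart_eq_pair]
        congr 1
        refine Finset.sum_congr rfl fun x _ => ?_
        by_cases hx : p ∣ orderOf x
        · rw [blockPair_regular_singular hM hB' hv hx, mul_zero, mul_zero]
        · simp [pRegularPart, IsPRegular, hx]
    have horth : ∀ η ∈ B', ∑ v, (η : G → ℂ) v * conj ((χ : G → ℂ) v) = 0 := fun η hη => by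
      have h := Cfsg.Agent.Char.classInner_irr_of_ne η.2 χ.2 fun e => hd (by rwa [← Subtype.ext e])
      unfold classInner at h
      exact (mul_eq_zero.1 h).resolve_left (inv_ne_zero hG)
    show ∑ v, pRegularPart p (ψ : G → ℂ) v * _ = 0
    rw [Finset.sum_congr rfl fun v _ => congrArg (· * conj ((χ : G → ℂ) v)) (hkey v)]
    simp only [blockPair, Finset.mul_sum, Finset.sum_mul]
    rw [Finset.sum_comm]
    refine Finset.sum_eq_zero fun x _ => ?_
    rw [Finset.sum_comm]
    refine Finset.sum_eq_zero fun η hη => ?_
    calc ∑ v, (Nat.card G : ℂ)⁻¹ * (pRegularPart p (ψ : G → ℂ) x *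
          ((η : G → ℂ) v * conj ((η : G → ℂ) x))) * conj ((χ : G → ℂ) v)
        = ((Nat.card G : ℂ)⁻¹ * pRegularPart p (ψ : G → ℂ) x * conj ((η : G → ℂ) x)) *
            ∑ v, (η : G → ℂ) v * conj ((χ : G → ℂ) v) := by
          rw [Finset.mul_sum]
          exact Finset.sum_congr rfl fun v _ => by ring
      _ = 0 := by rw [horth η (Finset.mem_filter.1 hη).2, mul_zero]
  | zero => simp
  | add f g _ _ h1 h2 => simp [add_mul, Finset.sum_add_distrib, h1, h2]
  | smul c f _ h1 => simp [mul_assoc, ← Finset.mul_sum, h1]

/-- The systems exist, with at most blockRank components in the block. -/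
theorem exists_sys (hM : IsPModular p M) {B : Set (IrrCharacter G)} (hB : IsPBlock M B) :
    ∃ (S : Sys M G) (T : Finset (Fin S.r)), (∀ i ∈ T, S.q (Ek M B) i = 1) ∧
      (∀ i, i ∉ T → S.q (Ek M B) i = 0) ∧ T.card = blockRank p B ∧
      LinearIndependent ℂ (fun i : T => S.beta p i) ∧
      Submodule.span ℂ (Set.range fun i : T => S.beta p i) = regSpan p B := by
  classical
  obtain ⟨r, d, q, J, N, T, hd, hq, hN, hker, -, h1, h0, hle⟩ := BlockAlg.exists_simples hM hB
  let S : Sys M G := ⟨r, d, q, J, N, hd, hq, hN, hker⟩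
  have hsub : regSpan p B ≤ Submodule.span ℂ (Set.range fun i : T => S.beta p i) := by
    refine Submodule.span_le.2 ?_
    rintro _ ⟨χ, hχ, rfl⟩
    obtain ⟨n, f, hf, hfB⟩ := exists_red hM χ
    obtain ⟨c, hc, hc0⟩ := S.exists_expand hM (ofMat f)
    have e : pRegularPart p (χ : G → ℂ) = ∑ l ∈ T, (c l : ℂ) • S.beta p l := by
      funext u
      rw [Finset.sum_apply]
      have hT : ∑ l ∈ T, ((c l : ℂ) • S.beta p l) u = ∑ l, (c l : ℂ) * S.beta p l u := by
        refine Finset.sum_subset (Finset.subset_univ T) fun l _ hl => ?_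
        have := hc0 (Ek M B) (Ek_idem hB) (by
          show Matrix.toLinAlgEquiv' (f (Ek M B)) = 1
          rw [hfB B hB hχ, map_one]) l (h0 l hl)
        simp [this]
      rw [hT, ← hc]
      by_cases hu : p ∣ orderOf u
      · simp [pRegularPart, IsPRegular, br, hu]
      · rw [hf u hu]; simp [pRegularPart, IsPRegular, hu]
    rw [SetLike.mem_coe]
    show pRegularPart p (χ : G → ℂ) ∈ _
    rw [e]
    exact Submodule.sum_mem _ fun l hl => Submodule.smul_mem _ _
      (Submodule.subset_span ⟨⟨l, hl⟩, rfl⟩)
  have hb1 : Module.finrank ℂ (Submodule.span ℂ (Set.range fun i : T => S.beta p i)) ≤ T.card := by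
    refine (finrank_range_le_card fun i : T => S.beta p i).trans_eq ?_
    exact Fintype.card_coe T
  have hr : Module.finrank ℂ (regSpan p B) = blockRank p B := rfl
  have hmono := Submodule.finrank_mono hsub
  have heq : regSpan p B = Submodule.span ℂ (Set.range fun i : T => S.beta p i) :=
    Submodule.eq_of_le_of_finrank_le hsub (by omega)
  refine ⟨S, T, h1, h0, by omega, ?_, heq.symm⟩
  refine linearIndependent_iff_card_eq_finrank_span.2 ?_
  show Fintype.card T = Module.finrank ℂ (Submodule.span ℂ _)
  rw [← heq, hr, Fintype.card_coe]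
  omega

/-- A representation of a block has its Brauer character in the span of the block. -/
theorem br_mem (hM : IsPModular p M) {B : Set (IrrCharacter G)} (hB : IsPBlock M B)
    {V : Type v} [AddCommGroup V] [Module (resField M) V] [FiniteDimensional (resField M) V]
    (F : MonoidAlgebra (resField M) G →ₐ[resField M] Module.End (resField M) V)
    (hF : F (Ek M B) = 1) : br p F ∈ regSpan p B := by
  obtain ⟨S, T, -, h0, -, -, hspan⟩ := exists_sys hM hB
  obtain ⟨c, hc, hc0⟩ := S.exists_expand hM F
  rw [← hspan]
  have e : br p F = ∑ l ∈ T, (c l : ℂ) • S.beta p l := by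
    funext u
    rw [hc, Finset.sum_apply]
    refine (Finset.sum_subset (Finset.subset_univ T) fun l _ hl => ?_).symm
    simp [hc0 (Ek M B) (Ek_idem hB) hF l (h0 l hl)]
  rw [e]
  exact Submodule.sum_mem _ fun l hl => Submodule.smul_mem _ _
    (Submodule.subset_span ⟨⟨l, hl⟩, rfl⟩)

theorem sum_Ek : ∑ B ∈ blocks M G, Ek M B = 1 := by
  simp only [Ek, ← map_sum, sum_blockEltR, map_one]

/-- Every component belongs to a block. -/
theorem Sys.exists_block (S : Sys M G) (l : Fin S.r) :
    ∃ B' : Set (IrrCharacter G), IsPBlock M B' ∧ ofMat (comp S.q l) (Ek M B') = 1 ∧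
      S.q (Ek M B') l ≠ 0 := by
  classical
  have h01 : ∀ B' ∈ blocks M G, comp S.q l (Ek M B') = 0 ∨ comp S.q l (Ek M B') = 1 := by
    intro B' hB'
    have hB'' := mem_blocks.1 hB'
    haveI : NeZero (S.d l) := ⟨(S.pos l).ne'⟩
    have hcomm : ∀ X, Commute X (S.q (Ek M B') l) := fun X => by
      obtain ⟨x, hx⟩ := S.surj (Pi.single l X)
      have : S.q x l = X := by rw [hx, Pi.single_eq_same]
      rw [← this, commute_iff_eq, ← Pi.mul_apply, ← Pi.mul_apply, ← map_mul, ← map_mul,
        IsClassElt.comm (isClassElt_Ek B') x]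
    obtain ⟨c, hc⟩ : ∃ c, Matrix.scalar (Fin (S.d l)) c = S.q (Ek M B') l :=
      Matrix.mem_range_scalar_of_commute_single fun a b _ => hcomm _
    have hcc : c * c = c := by
      have h := congrArg (fun X : Matrix (Fin (S.d l)) (Fin (S.d l)) (resField M) => X 0 0)
        (congrFun ((map_mul S.q (Ek M B') (Ek M B')).symm.trans
          (congrArg S.q (Ek_idem hB''))) l)
      simpa [← hc] using h
    rw [comp_apply]
    rcases eq_or_ne c 0 with h | h
    · left; rw [← hc, h]; simp
    · right; rw [← hc, mul_left_cancel₀ h (hcc.trans (mul_one c).symm)]; simp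
  have hsum : ∑ B' ∈ blocks M G, comp S.q l (Ek M B') = 1 := by
    rw [← map_sum, sum_Ek, map_one]
  obtain ⟨B', hB', h1⟩ : ∃ B' ∈ blocks M G, comp S.q l (Ek M B') = 1 := by
    by_contra h
    push Not at h
    rw [Finset.sum_eq_zero fun B' hB' => (h01 B' hB').resolve_right (h B' hB')] at hsum
    haveI : Nonempty (Fin (S.d l)) := ⟨⟨0, S.pos l⟩⟩
    exact zero_ne_one hsum
  refine ⟨B', mem_blocks.1 hB', ?_, ?_⟩
  · show Matrix.toLinAlgEquiv' (comp S.q l (Ek M B')) = 1
    rw [h1, map_one]
  · haveI : Nonempty (Fin (S.d l)) := ⟨⟨0, S.pos l⟩⟩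
    rw [comp_apply] at h1
    rw [h1]
    exact one_ne_zero

/-- The components outside a block are orthogonal to the block on regular elements. -/
theorem Sys.orth (hM : IsPModular p M) (S : Sys M G) {B : Set (IrrCharacter G)}
    (hB : IsPBlock M B) {l : Fin S.r} (hl : S.q (Ek M B) l = 0) {χ : IrrCharacter G}
    (hχ : χ ∈ B) : ∑ u, S.beta p l u * conj ((χ : G → ℂ) u) = 0 := by
  obtain ⟨B', hB', h1, hne⟩ := S.exists_block l
  refine sum_regular_eq_zero hM hB hB' ?_ (br_mem hM hB' _ h1) hχ
  rintro rfl
  exact hne hl

end Cfsg.Agent.BrauerChar
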