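/-
Brauer characters, extended through the regular parts, are generalized characters.
-/
import Cfsg.Agent.Lib.BrauerChar.Basis
import Cfsg.Agent.Lib.Char.BrauerInduction
import Cfsg.Agent.Lib.Char.PiPart

set_option linter.unusedSectionVars false
set_option linter.style.haveILetI false

namespace Cfsg.Agent.BrauerChar

open Cfsg MonoidAlgebra Cfsg.Agent.Blocks Cfsg.Agent.BrauerPairs
open scoped ComplexConjugate

universe u v

variable {G : Type u} [Group G] [Fintype G] {M : Ideal AlgInt} [M.IsPrime] {p : ℕ}

/-- The inclusion of the group algebra of a subgroup. -/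
noncomputable def incl (K : Subgroup G) :
    MonoidAlgebra (resField M) K →ₐ[resField M] MonoidAlgebra (resField M) G :=
  MonoidAlgebra.lift (resField M) (MonoidAlgebra (resField M) G) K
    ((MonoidAlgebra.of (resField M) G).comp K.subtype)

theorem incl_eigK (K : Subgroup G) [Fintype K] (u : K) (j : ℕ) :
    incl K (eigK M u j) = eigK M (u : G) j := by
  classical
  have hs : ∀ {H : Type u} [Group H] [Fintype H] (g : H) (c : locRing M),
      resG (MonoidAlgebra.single g c : MonoidAlgebra (locRing M) H) =
        MonoidAlgebra.single g (res M c) := fun g c =>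
    gaExt fun a => by simp [coeff_resG, Finsupp.single_apply, apply_ite (res M)]
  simp only [eigK, eigR, Subgroup.orderOf_coe, resG_smul, map_smul, map_sum, hs]
  congr 1
  refine Finset.sum_congr rfl fun i _ => ?_
  rw [incl, MonoidAlgebra.lift_single, MonoidHom.comp_apply, MonoidAlgebra.of_apply,
    Subgroup.subtype_apply, SubmonoidClass.coe_pow, MonoidAlgebra.smul_single, smul_eq_mul, mul_one]

variable {V : Type v} [AddCommGroup V] [Module (resField M) V]

theorem br_restrict (F : MonoidAlgebra (resField M) G →ₐ[resField M] Module.End (resField M) V)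
    (K : Subgroup G) [Fintype K] (u : K) : br p (F.comp (incl K)) u = br p F (u : G) := by
  simp only [br, eigMult, Subgroup.orderOf_coe]
  congr 1
  refine Finset.sum_congr rfl fun j _ => ?_
  rw [← incl_eigK K u j]
  rfl

/-- For a group of order prime to `p` the Brauer characters of the components are irreducible
characters. -/
theorem exists_irr_beta (hM : IsPModular p M) (hcop : ¬ p ∣ Nat.card G)
    {B : Set (IrrCharacter G)} (hB : IsPBlock M B) :
    ∃ (S : Sys M G) (T : Finset (Fin S.r)),
      (∀ i, i ∉ T → S.q (Ek M B) i = 0) ∧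
      ∀ i ∈ T, ∃ χ : IrrCharacter G, S.beta p i = (χ : G → ℂ) := by
  classical
  obtain ⟨S, T, h1, h0, hcard, hli, -⟩ := exists_sys hM hB
  refine ⟨S, T, h0, ?_⟩
  haveI := resField_charP hM
  have hreg : ∀ u : G, ¬ p ∣ orderOf u := fun u hu => hcop (hu.trans (orderOf_dvd_natCard u))
  have hpr : ∀ χ : IrrCharacter G, pRegularPart p (χ : G → ℂ) = (χ : G → ℂ) := fun χ => by
    funext u; simp [pRegularPart, IsPRegular, hreg u]
  have hBcard : Fintype.card {χ // χ ∈ B} = Fintype.card T := by
    rw [Fintype.card_coe, hcard, blockRank,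
      show (fun χ : IrrCharacter G => pRegularPart p (χ : G → ℂ)) '' B =
        Set.range (fun χ : {χ // χ ∈ B} => ((χ : IrrCharacter G) : G → ℂ)) from by
        ext f; simp [hpr]]
    exact (finrank_span_eq_card (b := fun χ : {χ // χ ∈ B} => ((χ : IrrCharacter G) : G → ℂ))
      (Cfsg.Agent.Char.linearIndependent_irr.comp _ Subtype.val_injective)).symm
  -- decomposition
  have hdec : ∀ χ : {χ // χ ∈ B}, ∃ c : T → ℕ,
      ∀ u, ((χ : IrrCharacter G) : G → ℂ) u = ∑ i, (c i : ℂ) * S.beta p i u := by
    rintro ⟨χ, hχ⟩
    obtain ⟨n, f, hf, hfB⟩ := exists_red hM χ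
    obtain ⟨c, hc, hc0⟩ := S.exists_expand hM (ofMat f) (p := p)
    refine ⟨fun i => c i, fun u => ?_⟩
    show (χ : G → ℂ) u = _
    rw [← hf u (hreg u), hc, Finset.sum_coe_sort T (fun l => (c l : ℂ) * S.beta p l u)]
    refine (Finset.sum_subset (Finset.subset_univ T) fun l _ hl => ?_).symm
    simp [hc0 (Ek M B) (Ek_idem hB) (by
      show Matrix.toLinAlgEquiv' (f (Ek M B)) = 1
      rw [hfB B hB hχ, map_one]) l (h0 l hl)]
  choose c hc using hdec
  let e : T ≃ {χ // χ ∈ B} := Fintype.equivOfCardEq hBcard.symm
  let X : Matrix T T ℂ := Matrix.of fun i j => (c (e i) j : ℂ)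
  have hX : IsUnit X := by
    refine Matrix.linearIndependent_rows_iff_isUnit.1 ?_
    rw [Fintype.linearIndependent_iff]
    intro a ha i
    have hz : ∑ i, a i • (((e i : {χ // χ ∈ B}) : IrrCharacter G) : G → ℂ) = 0 := by
      funext u
      simp only [Finset.sum_apply, Pi.smul_apply, smul_eq_mul, hc, Finset.mul_sum, Pi.zero_apply]
      rw [Finset.sum_comm]
      refine Finset.sum_eq_zero fun j _ => ?_
      have h := congrFun ha j
      simp only [Finset.sum_apply, Pi.smul_apply, smul_eq_mul, Pi.zero_apply] at h
      rw [← zero_mul (S.beta p (j : Fin S.r) u), ← h, Finset.sum_mul]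
      exact Finset.sum_congr rfl fun i _ => by simp [X]; ring
    exact Fintype.linearIndependent_iff.1
      (Cfsg.Agent.Char.linearIndependent_irr.comp _
        (Subtype.val_injective.comp e.injective)) a hz i
  obtain ⟨σ, hσ⟩ : ∃ σ : Equiv.Perm T, ∀ j, c (e (σ j)) j ≠ 0 := by
    by_contra h
    push Not at h
    refine ((Matrix.isUnit_iff_isUnit_det X).1 hX).ne_zero ?_
    rw [Matrix.det_apply]
    refine Finset.sum_eq_zero fun σ _ => ?_
    obtain ⟨j, hj⟩ := h σ
    rw [Finset.prod_eq_zero (Finset.mem_univ j) (by simp [X, hj]), smul_zero]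
  -- the degrees
  have hβ1 : ∀ i : Fin S.r, S.beta p i 1 = S.d i := fun i => by
    rw [Sys.beta, br_one hM.1.ne_one, Module.finrank_fin_fun]
  have hdeg : ∀ χ : {χ // χ ∈ B},
      charDegree ((χ : IrrCharacter G) : G → ℂ) = ∑ i : T, c χ i * S.d i := fun χ => by
    rw [← Nat.cast_inj (R := ℂ), ← irr_one_eq_charDegree, hc]
    push_cast
    exact Finset.sum_congr rfl fun i _ => by rw [hβ1]
  -- the dimension of the block algebra
  have hdim : ∑ χ ∈ Finset.univ.filter (· ∈ B), charDegree (χ : G → ℂ) ^ 2 ≤
      ∑ i : T, S.d i ^ 2 := by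
    rw [← BlockAlg.finrank_range_mulRight_Ek (M := M) hB]
    let π : MonoidAlgebra (resField M) G →ₗ[resField M]
        (Π i : T, Matrix (Fin (S.d i)) (Fin (S.d i)) (resField M)) :=
      LinearMap.pi fun i => (comp S.q (i : Fin S.r)).toLinearMap
    set W := LinearMap.range (LinearMap.mulRight (resField M) (Ek M B))
    have hinj : Function.Injective (π.domRestrict W) := by
      refine (injective_iff_map_eq_zero _).2 ?_
      rintro ⟨_, x, rfl⟩ hx
      refine Subtype.ext ?_
      show x * Ek M B = 0
      have hq : S.q (x * Ek M B) = 0 := by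
        funext i
        by_cases hi : i ∈ T
        · exact congrFun hx ⟨i, hi⟩
        · rw [map_mul, Pi.mul_apply, h0 i hi, mul_zero]; rfl
      set w := x * Ek M B
      refine gaExt fun g => ?_
      have hnil : IsNilpotent (w * MonoidAlgebra.single g⁻¹ 1) := ⟨S.N, by
        have h := Submodule.pow_mem_pow S.J
          (S.ker (w * MonoidAlgebra.single g⁻¹ 1) (by rw [map_mul, hq, zero_mul])) S.N
        rwa [S.nil, Submodule.mem_bot] at h⟩
      have htr := (LinearMap.isNilpotent_trace_of_isNilpotent
        (hnil.map (Algebra.lmul (resField M) (MonoidAlgebra (resField M) G)))).eq_zero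
      rw [LinearMap.trace_eq_matrix_trace (resField M) (MonoidAlgebra.basis G (resField M)),
        Matrix.trace] at htr
      have hG : (Nat.card G : resField M) ≠ 0 := fun h =>
        hcop ((CharP.cast_eq_zero_iff (resField M) p _).1 h)
      simp only [Matrix.diag, LinearMap.toMatrix_apply, MonoidAlgebra.coeff_zero,
        Finsupp.coe_zero, Pi.zero_apply] at htr ⊢
      rw [Finset.sum_congr rfl (fun a _ => show _ = w.coeff g from ?_), Finset.sum_const,
        Finset.card_univ, nsmul_eq_mul, ← Nat.card_eq_fintype_card] at htr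
      · exact (mul_eq_zero.1 htr).resolve_left hG
      · show (w * MonoidAlgebra.single g⁻¹ 1 * MonoidAlgebra.single a 1).coeff a = _
        rw [mul_assoc, MonoidAlgebra.single_mul_single, one_mul, coeff_mul_univ,
          Finset.sum_eq_single g]
        · simp
        · intro b _ hb
          rw [MonoidAlgebra.coeff_single, Finsupp.single_eq_of_ne, mul_zero]
          intro he
          refine hb (inv_injective (mul_right_cancel (a := g⁻¹) (b := a) (c := b⁻¹) ?_).symm)
          exact he.symm
        · simp
    refine (LinearMap.finrank_le_finrank_of_injective hinj).trans (le_of_eq ?_)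
    rw [Module.finrank_pi_fintype]
    exact Finset.sum_congr rfl fun i _ => by simp [Module.finrank_matrix, sq]
  intro i hi
  refine ⟨(e (σ ⟨i, hi⟩) : {χ // χ ∈ B}), ?_⟩
  -- equality of the degrees forces a permutation
  have hle : ∀ j : T, S.d j ≤ charDegree (((e (σ j)) : IrrCharacter G) : G → ℂ) := fun j => by
    rw [hdeg]
    refine le_trans ?_ (Finset.single_le_sum (fun i _ => Nat.zero_le _) (Finset.mem_univ j))
    exact Nat.le_mul_of_pos_left _ (Nat.pos_of_ne_zero (hσ j))
  have heq : ∀ j : T, S.d j = charDegree (((e (σ j)) : IrrCharacter G) : G → ℂ) := by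
    have h2 : ∑ j : T, charDegree (((e (σ j)) : IrrCharacter G) : G → ℂ) ^ 2 ≤
        ∑ j : T, S.d j ^ 2 := by
      refine le_trans (le_of_eq ?_) hdim
      rw [Finset.sum_subtype (p := fun χ => χ ∈ B) _ (fun χ => by simp)]
      exact Fintype.sum_equiv (σ.trans e) _ _ fun j => rfl
    have h3 := (Finset.sum_eq_sum_iff_of_le
      (fun j (_ : j ∈ Finset.univ) => Nat.pow_le_pow_left (hle j) 2)).1
      (le_antisymm (Finset.sum_le_sum fun j _ => Nat.pow_le_pow_left (hle j) 2) h2)
    exact fun j => Nat.pow_left_injective two_ne_zero (h3 j (Finset.mem_univ j))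
  set j : T := ⟨i, hi⟩
  have hz : ∀ k : T, c (e (σ j)) k = if k = j then 1 else 0 := by
    intro k
    have h := heq j
    rw [hdeg, ← Finset.add_sum_erase _ _ (Finset.mem_univ j)] at h
    have hd : 0 < S.d (j : Fin S.r) := S.pos _
    have h' : S.d (j : Fin S.r) ≤ c (e (σ j)) j * S.d j :=
      Nat.le_mul_of_pos_left _ (Nat.pos_of_ne_zero (hσ j))
    rcases eq_or_ne k j with rfl | hk
    · rw [if_pos rfl]
      exact Nat.eq_of_mul_eq_mul_right hd (by omega)
    · rw [if_neg hk]
      have h4 : c (e (σ j)) k * S.d k = 0 := Nat.eq_zero_of_le_zero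
        ((Finset.single_le_sum (f := fun k : T => c (e (σ j)) k * S.d k)
          (fun i _ => Nat.zero_le _) (Finset.mem_erase.2 ⟨hk, Finset.mem_univ k⟩)).trans (by omega))
      exact (Nat.mul_eq_zero.1 h4).resolve_right (S.pos _).ne'
  funext u
  rw [hc]
  simp [hz]
  rfl

/-- For a group of order prime to `p` the Brauer characters are generalized characters. -/
theorem isGeneralizedCharacter_br_coprime (hM : IsPModular p M) (hcop : ¬ p ∣ Nat.card G)
    [FiniteDimensional (resField M) V]
    (F : MonoidAlgebra (resField M) G →ₐ[resField M] Module.End (resField M) V) :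
    IsGeneralizedCharacter G (br p F) := by
  classical
  obtain ⟨S0, -, -, -, -, -, -⟩ := exists_sys hM (isPBlock_principalBlock M G) (p := p)
  obtain ⟨c, hc, -⟩ := S0.exists_expand hM F (p := p)
  have e : br p F = ∑ l, (((c l : ℤ)) : ℂ) • S0.beta p l := by
    funext u
    rw [hc, Finset.sum_apply]
    simp
  rw [e]
  refine Cfsg.Agent.Char.isGeneralizedCharacter_sum _ fun l _ =>
    Cfsg.Agent.Char.IsGeneralizedCharacter.int_smul ?_ _
  obtain ⟨B, hB, hl, -⟩ := S0.exists_block l
  obtain ⟨S, T, h0, hirr⟩ := exists_irr_beta hM hcop hB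
  obtain ⟨c', hc', hc0⟩ := S.exists_expand hM (ofMat (comp S0.q l)) (p := p)
  have e' : S0.beta p l = ∑ i, (((c' i : ℤ)) : ℂ) • S.beta p i := by
    funext u
    rw [Sys.beta, hc', Finset.sum_apply]
    simp
  rw [e']
  refine Cfsg.Agent.Char.isGeneralizedCharacter_sum _ fun i _ => ?_
  by_cases hi : i ∈ T
  · obtain ⟨χ, hχ⟩ := hirr i hi
    rw [hχ]
    exact Cfsg.Agent.Char.IsGeneralizedCharacter.int_smul
      (Cfsg.Agent.Char.IsGeneralizedCharacter.of_isCharacter (irr_isCharacter χ)) _
  · rw [hc0 (Ek M B) (Ek_idem hB) hl i (h0 i hi)]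
    simp only [Nat.cast_zero, Int.cast_zero, zero_smul]
    exact Cfsg.Agent.Char.isGeneralizedCharacter_zero

variable (p) in
/-- The Brauer character extended through the regular part. -/
noncomputable def brExt (hp : p.Prime)
    (F : MonoidAlgebra (resField M) G →ₐ[resField M] Module.End (resField M) V) : G → ℂ :=
  fun g => br p F (g ^ Cfsg.Agent.Char.hallExp
    ((Nat.Coprime.pow_left ((Nat.card G).factorization p)
      (Nat.coprime_ordCompl hp (Nat.card_pos (α := G)).ne')).symm))

theorem brExt_regular (hp : p.Prime)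
    (F : MonoidAlgebra (resField M) G →ₐ[resField M] Module.End (resField M) V) {u : G}
    (hu : ¬ p ∣ orderOf u) : brExt p hp F u = br p F u := by
  unfold brExt
  rw [Cfsg.Agent.Char.pow_hallExp_of_dvd]
  refine orderOf_dvd_iff_pow_eq_one.1 (Nat.Coprime.dvd_of_dvd_mul_left
    (Nat.Coprime.pow_left ((Nat.card G).factorization p) ((hp.coprime_iff_not_dvd).2 hu)).symm ?_)
  rw [Nat.ordProj_mul_ordCompl_eq_self]
  exact orderOf_dvd_natCard _

/-- The extended Brauer character is a generalized character. -/
theorem isGeneralizedCharacter_brExt (hM : IsPModular p M) [FiniteDimensional (resField M) V]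
    (F : MonoidAlgebra (resField M) G →ₐ[resField M] Module.End (resField M) V) :
    IsGeneralizedCharacter G (brExt p hM.1 F) := by
  classical
  set n' := Nat.card G / p ^ (Nat.card G).factorization p with hn'
  set m' := p ^ (Nat.card G).factorization p with hm'
  have hco : Nat.Coprime n' m' :=
    (Nat.Coprime.pow_left ((Nat.card G).factorization p)
      (Nat.coprime_ordCompl hM.1 (Nat.card_pos (α := G)).ne')).symm
  refine Cfsg.Agent.Char.isGeneralizedCharacter_of_elementary (fun g h => ?_) fun E q hq hE => ?_
  · unfold brExt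
    rw [conj_pow]
    set y := g ^ Cfsg.Agent.Char.hallExp _
    -- conjugation invariance
    let α : G ≃* G := MulAut.conj h
    show br p F (α y) = br p F y
    rw [← br_comp F α y]
    obtain ⟨S, -, -, -, -, -, -⟩ := exists_sys hM (isPBlock_principalBlock M G) (p := p)
    obtain ⟨c, hc, -⟩ := S.exists_expand hM F (p := p)
    by_cases hy : p ∣ orderOf y
    · simp [br, hy]
    · simp only [br, hy, not_false_eq_true, if_true, eigMult]
      refine Finset.sum_congr rfl fun j _ => ?_
      congr 2
      show Module.finrank (resField M) (LinearMap.range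
        (F (MonoidAlgebra.domCongr (resField M) (resField M) α (eigK M y j)))) = _
      have hconj : MonoidAlgebra.domCongr (resField M) (resField M) α (eigK M y j) =
          MonoidAlgebra.single h 1 * eigK M y j * MonoidAlgebra.single h⁻¹ 1 := by
        refine gaExt fun a => ?_
        rw [coeff_mul_univ, Finset.sum_eq_single (a * h), coeff_mul_univ,
          Finset.sum_eq_single h]
        · simp [α, MulAut.conj_symm_apply, mul_assoc]
        · intro b _ hb; simp [Ne.symm hb]
        · simp
        · intro b _ hb
          rw [MonoidAlgebra.coeff_single, Finsupp.single_eq_of_ne, mul_zero]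
          intro he
          apply hb
          rw [← inv_injective.eq_iff] at he
          simp at he
          rw [← he]; group
        · simp
      rw [hconj, map_mul, map_mul]
      set A := F (MonoidAlgebra.single h 1)
      set A' := F (MonoidAlgebra.single h⁻¹ 1)
      have hA : A' * A = 1 := by
        rw [← map_mul, MonoidAlgebra.single_mul_single, inv_mul_cancel, one_mul,
          ← MonoidAlgebra.one_def, map_one]
      have hA2 : A * A' = 1 := by
        rw [← map_mul, MonoidAlgebra.single_mul_single, mul_inv_cancel, one_mul,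
          ← MonoidAlgebra.one_def, map_one]
      have hsurj : LinearMap.range A' = ⊤ := LinearMap.range_eq_top.2 fun x =>
        ⟨A x, by rw [← Module.End.mul_apply, hA, Module.End.one_apply]⟩
      have hinj : Function.Injective A := fun x y hxy => by
        have h' := congrArg A' hxy
        rwa [← Module.End.mul_apply, ← Module.End.mul_apply, hA, Module.End.one_apply,
          Module.End.one_apply] at h'
      rw [Module.End.mul_eq_comp, LinearMap.range_comp_of_range_eq_top _ hsurj,
        Module.End.mul_eq_comp, LinearMap.range_comp]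
      exact (Submodule.equivMapOfInjective A hinj _).finrank_eq.symm
  · have hdvd : Nat.card E ∣ n' * m' := by
      rw [mul_comm, hm', hn', Nat.ordProj_mul_ordCompl_eq_self]
      exact Subgroup.card_subgroup_dvd_card E
    let π := Cfsg.Agent.Char.hallHom hq hE hco hdvd
    let K : Subgroup G := π.range.map E.subtype
    have hK : ¬ p ∣ Nat.card K := by
      intro h
      rw [Subgroup.card_map_of_injective (Subgroup.subtype_injective E)] at h
      exact Nat.not_dvd_ordCompl hM.1 (Nat.card_pos (α := G)).ne'
        (h.trans (Cfsg.Agent.Char.card_range_hallHom_dvd hq hE hco hdvd))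
    let f : E →* K :=
      { toFun := fun e => ⟨(π e : G), ⟨π e, ⟨e, rfl⟩, rfl⟩⟩
        map_one' := Subtype.ext (by simp)
        map_mul' := fun a b => Subtype.ext (by simp) }
    haveI : Fintype K := Fintype.ofFinite _
    have h := Cfsg.Agent.Char.IsGeneralizedCharacter.comp
      (isGeneralizedCharacter_br_coprime hM hK (F.comp (incl K))) f
    convert h using 1
    funext e
    rw [br_restrict]
    rfl

end Cfsg.Agent.BrauerChar
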