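/-
The trace of an automorphism on the Brauer characters of a block is a natural number.
-/
import Cfsg.Agent.Lib.BrauerChar.Basis

set_option linter.unusedSectionVars false
set_option linter.style.haveILetI false

namespace Cfsg.Agent.BrauerChar

open Cfsg MonoidAlgebra Cfsg.Agent.Blocks Cfsg.Agent.BrauerPairs
open scoped ComplexConjugate

universe u

variable {G : Type u} [Group G] [Fintype G] {M : Ideal AlgInt} [M.IsPrime] {p : ℕ}

theorem Sys.beta_singular (S : Sys M G) (l : Fin S.r) {u : G} (hu : p ∣ orderOf u) :
    S.beta p l u = 0 := by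
  rw [Sys.beta, br, if_neg (not_not.2 hu)]

/-- The twisted diagonal sum of a block on regular elements is a natural number. -/
theorem exists_aut_trace (hM : IsPModular p M) {B : Set (IrrCharacter G)} (hB : IsPBlock M B)
    (α : G ≃* G) [DecidablePred fun u : G => ¬ p ∣ orderOf u] :
    ∃ N : ℕ, ∑ u ∈ Finset.univ.filter (fun u : G => ¬ p ∣ orderOf u), blockPair B (α u) u =
      (Nat.card G : ℂ) * N := by
  classical
  obtain ⟨S, T, -, h0, -, hli, hspan⟩ := exists_sys hM hB
  -- the coordinates of the characters
  have hex : ∀ χ ∈ B, ∃ D : T → ℂ, ∀ u, pRegularPart p (χ : G → ℂ) u =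
      ∑ i, D i * S.beta p i u := by
    intro χ hχ
    have h : pRegularPart p (χ : G → ℂ) ∈
        Submodule.span ℂ (Set.range fun i : T => S.beta p i) := by
      rw [hspan]; exact Submodule.subset_span ⟨χ, hχ, rfl⟩
    obtain ⟨D, hD⟩ := (Submodule.mem_span_range_iff_exists_fun ℂ).1 h
    exact ⟨D, fun u => by rw [← hD]; simp⟩
  choose D hD using hex
  let K : T → (G → ℂ) → ℂ := fun i f => (Nat.card G : ℂ)⁻¹ *
    ∑ χ : {χ // χ ∈ B}, D χ χ.2 i * ∑ u, f u * conj (((χ : IrrCharacter G) : G → ℂ) u)
  have hKlin : ∀ i (c : Fin S.r → ℂ),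
      K i (fun u => ∑ l, c l * S.beta p l u) = ∑ l, c l * K i (S.beta p l) := by
    intro i c
    simp only [K, Finset.mul_sum, Finset.sum_mul]
    refine ((Finset.sum_congr rfl fun χ _ => Finset.sum_comm).trans Finset.sum_comm).trans ?_
    refine Finset.sum_congr rfl fun l _ => ?_
    exact Finset.sum_congr rfl fun χ _ => Finset.sum_congr rfl fun u _ => by ring
  have hG : (Nat.card G : ℂ) ≠ 0 := Nat.cast_ne_zero.2 Nat.card_pos.ne'
  -- the coordinates of the basis
  have hK1 : ∀ j i : T, K i (S.beta p j) = if j = i then 1 else 0 := by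
    intro j
    have hmem : S.beta p j ∈ regSpan p B := by
      rw [← hspan]; exact Submodule.subset_span ⟨j, rfl⟩
    have hproj : ∀ v, S.beta p j v = ∑ i : T, K i (S.beta p j) * S.beta p i v := by
      intro v
      by_cases hv : p ∣ orderOf v
      · simp [S.beta_singular _ hv]
      · have hfix : S.beta p j v = (Nat.card G : ℂ)⁻¹ * ∑ w, S.beta p j w * blockPair B v w := by
          generalize S.beta p j = f at hmem
          induction hmem using Submodule.span_induction with
          | mem f hf =>
            obtain ⟨ψ, hψ, rfl⟩ := hf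
            have h2 : blockPart B (ψ : G → ℂ) = (ψ : G → ℂ) :=
              classInner_blockPart_self B
                (Cfsg.Agent.Char.IsCharacter.isClassFunction (irr_isCharacter ψ))
                fun η hη => Cfsg.Agent.Char.classInner_irr_of_ne ψ.2 η.2 fun h =>
                  hη (by rwa [← Subtype.ext h])
            show pRegularPart p (ψ : G → ℂ) v = _
            rw [show pRegularPart p (ψ : G → ℂ) v = (ψ : G → ℂ) v by
              simp [pRegularPart, IsPRegular, hv]]
            rw [← congrFun h2 v, blockPart_eq_pair]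
            congr 1
            refine Finset.sum_congr rfl fun x _ => ?_
            by_cases hx : p ∣ orderOf x
            · rw [blockPair_regular_singular hM hB hv hx, mul_zero, mul_zero]
            · simp [pRegularPart, IsPRegular, hx]
          | zero => simp
          | add f g _ _ h1 h2 =>
            simp only [Pi.add_apply, add_mul, Finset.sum_add_distrib, mul_add]
            conv_lhs => rw [h1, h2]
          | smul c f _ h1 =>
            simp only [Pi.smul_apply, smul_eq_mul, mul_assoc, ← Finset.mul_sum]
            conv_lhs => rw [h1]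
            ring
        conv_lhs => rw [hfix]
        have hpair : ∀ w, blockPair B v w =
            ∑ χ : {χ // χ ∈ B}, (∑ i, D χ χ.2 i * S.beta p i v) *
              conj (((χ : IrrCharacter G) : G → ℂ) w) := by
          intro w
          rw [blockPair, Finset.sum_subtype (p := fun χ => χ ∈ B) _ (fun χ => by simp)]
          refine Finset.sum_congr rfl fun χ _ => ?_
          rw [← hD χ χ.2 v]
          simp [pRegularPart, IsPRegular, hv]
        simp only [hpair, K, Finset.mul_sum, Finset.sum_mul]
        refine ((Finset.sum_congr rfl fun w _ => Finset.sum_comm).trans Finset.sum_comm).trans ?_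
        refine Finset.sum_congr rfl fun i _ => ?_
        refine Finset.sum_comm.trans ?_
        exact Finset.sum_congr rfl fun χ _ => Finset.sum_congr rfl fun w _ => by ring
    intro i
    have hz : ∑ l : T, (K l (S.beta p j) - if j = l then 1 else 0) • S.beta p l = 0 := by
      funext v
      simp only [Finset.sum_apply, Pi.smul_apply, smul_eq_mul, sub_mul, Finset.sum_sub_distrib,
        ← hproj, ite_mul, one_mul, zero_mul, Finset.sum_ite_eq, Finset.mem_univ, if_true, sub_self,
        Pi.zero_apply]
    exact sub_eq_zero.1 (Fintype.linearIndependent_iff.1 hli _ hz i)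
  have hK0 : ∀ l, l ∉ T → ∀ i : T, K i (S.beta p l) = 0 := fun l hl i => by
    simp only [K]
    rw [Finset.sum_eq_zero fun χ _ => by rw [S.orth hM hB (h0 l hl) χ.2, mul_zero], mul_zero]
  -- the twisted basis
  have hc : ∀ i : T, ∃ c : Fin S.r → ℕ, ∀ u, S.beta p i (α u) = ∑ l, (c l : ℂ) * S.beta p l u := by
    intro i
    obtain ⟨c, hc, -⟩ := S.exists_expand hM ((ofMat (comp S.q (i : Fin S.r))).comp
      (MonoidAlgebra.domCongr (resField M) (resField M) α).toAlgHom) (p := p)
    exact ⟨c, fun u => by rw [← hc, br_comp]; rfl⟩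
  choose c hc using hc
  refine ⟨∑ i : T, c i i, ?_⟩
  have hlhs : ∑ u ∈ Finset.univ.filter (fun u : G => ¬ p ∣ orderOf u), blockPair B (α u) u =
      (Nat.card G : ℂ) * ∑ i : T, K i (fun u => S.beta p i (α u)) := by
    simp only [K, Finset.mul_sum, mul_inv_cancel_left₀ hG]
    rw [Finset.sum_filter, Finset.sum_comm (γ := T)]
    simp_rw [Finset.sum_comm (γ := T) (α := G)]
    rw [Finset.sum_comm]
    refine Finset.sum_congr rfl fun u _ => ?_
    rw [blockPair, Finset.sum_subtype (p := fun χ => χ ∈ B) _ (fun χ => by simp)]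
    by_cases hu : p ∣ orderOf u
    · rw [if_neg (not_not.2 hu)]
      symm
      refine Finset.sum_eq_zero fun χ _ => Finset.sum_eq_zero fun i _ => ?_
      rw [S.beta_singular _ (by rwa [MulEquiv.orderOf_eq]), zero_mul, mul_zero]
    · rw [if_pos hu]
      refine Finset.sum_congr rfl fun χ _ => ?_
      have hau : ((χ : IrrCharacter G) : G → ℂ) (α u) = ∑ i, D χ χ.2 i * S.beta p i (α u) := by
        rw [← hD χ χ.2 (α u)]
        simp [pRegularPart, IsPRegular, hu]
      rw [hau, Finset.sum_mul]
      exact Finset.sum_congr rfl fun i _ => by ring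
  rw [hlhs]
  congr 1
  rw [Nat.cast_sum]
  refine Finset.sum_congr rfl fun i _ => ?_
  rw [show (fun u => S.beta p i (α u)) = fun u => ∑ l, (c i l : ℂ) * S.beta p l u from
    funext (hc i), hKlin]
  rw [Finset.sum_eq_single (i : Fin S.r)]
  · rw [hK1, if_pos rfl, mul_one]
  · intro l _ hl
    by_cases hlT : l ∈ T
    · rw [show l = ((⟨l, hlT⟩ : T) : Fin S.r) from rfl, hK1, if_neg, mul_zero]
      exact fun h => hl (congrArg Subtype.val h)
    · rw [hK0 l hlT, mul_zero]
  · simp

end Cfsg.Agent.BrauerChar
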