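/-
The sum of the squares of the degrees of a block.
-/
import Cfsg.Agent.Lib.BrauerChar.Virtual
import Cfsg.Agent.Lib.Blocks.Degree

set_option linter.unusedSectionVars false
set_option linter.style.haveILetI false

namespace Cfsg.Agent.BrauerChar

open Cfsg MonoidAlgebra Cfsg.Agent.Blocks Cfsg.Agent.BrauerPairs
open scoped ComplexConjugate

universe u

variable {G : Type u} [Group G] [Fintype G] {M : Ideal AlgInt} [M.IsPrime] {p : ℕ}

/-- A decomposition of the regular restrictions through positive functions: degrees `dd` divisible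
by the common divisors of the character degrees, projective degrees `Phi` divisible by those and
by the `p`-part of the group order. -/
theorem exists_degree_split (hM : IsPModular p M) {B : Set (IrrCharacter G)} (hB : IsPBlock M B)
    [DecidablePred (· ∈ B)] :
    ∃ (l : ℕ) (dd Phi : Fin l → ℕ), l = blockRank p B ∧ (∀ i, 0 < dd i ∧ 0 < Phi i) ∧
      (∀ g : ℕ, (∀ χ ∈ B, g ∣ charDegree (χ : G → ℂ)) → ∀ i, g ∣ dd i ∧ g ∣ Phi i) ∧
      (∀ i, p ^ (Nat.card G).factorization p ∣ Phi i) ∧
      ∑ χ ∈ Finset.univ.filter (· ∈ B), charDegree (χ : G → ℂ) ^ 2 = ∑ i, dd i * Phi i := by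
  classical
  haveI := Fact.mk hM.1
  obtain ⟨S, T, h1, h0, hcard, hli, hspan⟩ := exists_sys hM hB
  have hdec : ∀ χ : {χ // χ ∈ B}, ∃ c : T → ℕ,
      ∀ u, pRegularPart p ((χ : IrrCharacter G) : G → ℂ) u = ∑ i, (c i : ℂ) * S.beta p i u := by
    rintro ⟨χ, hχ⟩
    obtain ⟨n, f, hf, hfB⟩ := exists_red hM χ
    obtain ⟨c, hc, hc0⟩ := S.exists_expand hM (ofMat f) (p := p)
    refine ⟨fun i => c i, fun u => ?_⟩
    show pRegularPart p (χ : G → ℂ) u = _
    rw [Finset.sum_coe_sort T (fun l => (c l : ℂ) * S.beta p l u)]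
    have e : ∑ l ∈ T, (c l : ℂ) * S.beta p l u = br p (ofMat f) u := by
      rw [hc]
      refine Finset.sum_subset (Finset.subset_univ T) fun l _ hl => ?_
      simp [hc0 (Ek M B) (Ek_idem hB) (by
        show Matrix.toLinAlgEquiv' (f (Ek M B)) = 1
        rw [hfB B hB hχ, map_one]) l (h0 l hl)]
    rw [e]
    by_cases hu : p ∣ orderOf u
    · simp [pRegularPart, IsPRegular, br, hu]
    · rw [hf u hu]; simp [pRegularPart, IsPRegular, hu]
  choose c hc using hdec
  have hone : ¬ p ∣ orderOf (1 : G) := by simp [hM.1.ne_one]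
  have hβ1 : ∀ i : Fin S.r, S.beta p i 1 = S.d i := fun i => by
    rw [Sys.beta, br_one hM.1.ne_one, Module.finrank_fin_fun]
  have hdeg : ∀ χ : {χ // χ ∈ B},
      charDegree ((χ : IrrCharacter G) : G → ℂ) = ∑ i : T, c χ i * S.d i := fun χ => by
    have h := hc χ 1
    rw [show pRegularPart p ((χ : IrrCharacter G) : G → ℂ) 1 = ((χ : IrrCharacter G) : G → ℂ) 1 by
      simp [pRegularPart, IsPRegular, hM.1.ne_one], irr_one_eq_charDegree] at h
    rw [← Nat.cast_inj (R := ℂ), h]
    push_cast
    exact Finset.sum_congr rfl fun i _ => by rw [hβ1]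
  let e : Fin (blockRank p B) ≃ T := (Fintype.equivFinOfCardEq (by rw [Fintype.card_coe, hcard])).symm
  let PhiT : T → ℕ := fun i => ∑ χ : {χ // χ ∈ B}, c χ i * charDegree ((χ : IrrCharacter G) : G → ℂ)
  -- the columns are not zero
  have hcol : ∀ i : T, ∃ χ, c χ i ≠ 0 := by
    intro i
    by_contra h
    push Not at h
    have hsub : regSpan p B ≤ Submodule.span ℂ ((fun j : T => S.beta p j) '' {i}ᶜ) := by
      refine Submodule.span_le.2 ?_
      rintro _ ⟨χ, hχ, rfl⟩
      rw [SetLike.mem_coe]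
      have e : pRegularPart p (χ : G → ℂ) = ∑ j, (c ⟨χ, hχ⟩ j : ℂ) • S.beta p j := by
        funext u; rw [hc ⟨χ, hχ⟩ u, Finset.sum_apply]; simp
      show pRegularPart p (χ : G → ℂ) ∈ _
      rw [e]
      refine Submodule.sum_mem _ fun j _ => ?_
      rcases eq_or_ne j i with rfl | hj
      · simp [h ⟨χ, hχ⟩]
      · exact Submodule.smul_mem _ _ (Submodule.subset_span ⟨j, hj, rfl⟩)
    exact hli.notMem_span_image (x := i) (s := {i}ᶜ) (by simp)
      (hsub (by rw [← hspan]; exact Submodule.subset_span ⟨i, rfl⟩))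
  -- the projective functions vanish off the regular elements
  have hvan : ∀ i : T, ∀ w : G, p ∣ orderOf w →
      ∑ χ : {χ // χ ∈ B}, (c χ i : ℂ) * conj (((χ : IrrCharacter G) : G → ℂ) w) = 0 := by
    intro i w hw
    refine Fintype.linearIndependent_iff.1 hli
      (fun j => ∑ χ : {χ // χ ∈ B}, (c χ j : ℂ) * conj (((χ : IrrCharacter G) : G → ℂ) w)) ?_ i
    funext u
    simp only [Finset.sum_apply, Pi.smul_apply, smul_eq_mul, Pi.zero_apply, Finset.sum_mul]
    rw [Finset.sum_comm]
    by_cases hu : p ∣ orderOf u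
    · exact Finset.sum_eq_zero fun χ _ => Finset.sum_eq_zero fun j _ => by
        rw [show S.beta p j u = 0 by rw [Sys.beta, br, if_neg (not_not.2 hu)], mul_zero]
    · rw [← blockPair_regular_singular hM hB hu hw, blockPair,
        Finset.sum_subtype (p := fun χ => χ ∈ B) _ (fun χ => by simp)]
      refine Finset.sum_congr rfl fun χ _ => ?_
      rw [show ((χ : IrrCharacter G) : G → ℂ) u = pRegularPart p ((χ : IrrCharacter G) : G → ℂ) u by
        simp [pRegularPart, IsPRegular, hu], hc, Finset.sum_mul]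
      exact Finset.sum_congr rfl fun j _ => by ring
  refine ⟨blockRank p B, fun i => S.d (e i), fun i => PhiT (e i), rfl,
    fun i => ⟨S.pos _, ?_⟩, fun g hg i => ⟨?_, ?_⟩, fun i => ?_, ?_⟩
  · obtain ⟨χ, hχ⟩ := hcol (e i)
    exact lt_of_lt_of_le (Nat.mul_pos (Nat.pos_of_ne_zero hχ) (charDegree_pos _))
      (Finset.single_le_sum
        (f := fun χ : {χ // χ ∈ B} => c χ (e i) * charDegree ((χ : IrrCharacter G) : G → ℂ))
        (fun χ _ => Nat.zero_le _) (Finset.mem_univ χ))
  · -- the degree of a Brauer character is a combination of the degrees in the block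
    set F := ofMat (comp S.q (e i : Fin S.r))
    have hgc := isGeneralizedCharacter_brExt hM F
    choose m hm using fun χ : IrrCharacter G =>
      Cfsg.Agent.Char.IsGeneralizedCharacter.exists_classInner_int hgc
        (Cfsg.Agent.Char.IsGeneralizedCharacter.of_isCharacter (irr_isCharacter χ))
    have hfix : S.beta p (e i) 1 =
        blockPart B (brExt p hM.1 F) 1 := by
      have hmem : S.beta p (e i) ∈ regSpan p B := by
        rw [← hspan]; exact Submodule.subset_span ⟨e i, rfl⟩
      have h2 : ∀ f ∈ regSpan p B, ∀ f' : G → ℂ, (∀ u, ¬ p ∣ orderOf u → f' u = f u) →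
          f 1 = blockPart B f' 1 := by
        intro f hf f' hf'
        have hb : blockPart B f' 1 = (Nat.card G : ℂ)⁻¹ * ∑ x, f x * blockPair B 1 x := by
          rw [blockPart_eq_pair]
          congr 1
          refine Finset.sum_congr rfl fun x _ => ?_
          by_cases hx : p ∣ orderOf x
          · rw [blockPair_regular_singular hM hB hone hx, mul_zero, mul_zero]
          · rw [hf' x hx]
        rw [hb]
        clear hb hf' f'
        induction hf using Submodule.span_induction with
        | mem f hf =>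
          obtain ⟨ψ, hψ, rfl⟩ := hf
          have h2 : blockPart B (ψ : G → ℂ) = (ψ : G → ℂ) :=
            classInner_blockPart_self B
              (Cfsg.Agent.Char.IsCharacter.isClassFunction (irr_isCharacter ψ))
              fun η hη => Cfsg.Agent.Char.classInner_irr_of_ne ψ.2 η.2 fun h =>
                hη (by rwa [← Subtype.ext h])
          show pRegularPart p (ψ : G → ℂ) 1 = _
          rw [show pRegularPart p (ψ : G → ℂ) 1 = (ψ : G → ℂ) 1 by
            simp [pRegularPart, IsPRegular, hM.1.ne_one]]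
          rw [← congrFun h2 1, blockPart_eq_pair]
          congr 1
          refine Finset.sum_congr rfl fun x _ => ?_
          by_cases hx : p ∣ orderOf x
          · rw [blockPair_regular_singular hM hB hone hx, mul_zero, mul_zero]
          · simp [pRegularPart, IsPRegular, hx]
        | zero => simp
        | add f g _ _ h1 h2 =>
          simp only [Pi.add_apply, add_mul, Finset.sum_add_distrib, mul_add]
          conv_lhs => rw [h1, h2]
        | smul a f _ h1 =>
          simp only [Pi.smul_apply, smul_eq_mul, mul_assoc, ← Finset.mul_sum]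
          conv_lhs => rw [h1]
          ring
      exact h2 _ hmem _ fun u hu => brExt_regular hM.1 F hu
    rw [hβ1, blockPart_eq_sum] at hfix
    choose k hk using fun χ : {χ // χ ∈ B} => hg χ χ.2
    have hz : (S.d (e i) : ℤ) = (g : ℤ) * ∑ χ : {χ // χ ∈ B}, m χ * (k χ : ℤ) := by
      rw [← Int.cast_inj (α := ℂ)]
      push_cast
      rw [hfix, Finset.sum_subtype (p := fun χ => χ ∈ B) _ (fun χ => by simp), Finset.mul_sum]
      refine Finset.sum_congr rfl fun χ _ => ?_
      rw [hm, irr_one_eq_charDegree, hk]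
      push_cast
      ring
    exact Int.natCast_dvd_natCast.1 ⟨_, hz⟩
  · exact Finset.dvd_sum fun χ _ => Dvd.dvd.mul_left (hg χ χ.2) _
  · obtain ⟨P⟩ : Nonempty (Sylow p G) := inferInstance
    choose m hm using exists_sum_subgroup_eq (P : Subgroup G)
    have hP : Nat.card (P : Subgroup G) = p ^ (Nat.card G).factorization p :=
      Sylow.card_eq_multiplicity P
    refine ⟨∑ χ : {χ // χ ∈ B}, c χ (e i) * m χ, ?_⟩
    rw [← Nat.cast_inj (R := ℂ), ← hP]
    simp only [PhiT]
    push_cast
    rw [Finset.mul_sum]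
    have h2 : ∑ χ : {χ // χ ∈ B}, (c χ (e i) : ℂ) * conj (∑ x : (P : Subgroup G),
        ((χ : IrrCharacter G) : G → ℂ) x) =
        ∑ χ : {χ // χ ∈ B}, (c χ (e i) : ℂ) * conj (((χ : IrrCharacter G) : G → ℂ) 1) := by
      simp only [map_sum, Finset.mul_sum]
      rw [Finset.sum_comm, Finset.sum_eq_single 1]
      · rfl
      · intro x _ hx
        refine hvan (e i) x ?_
        obtain ⟨j, hj⟩ := (IsPGroup.iff_orderOf.1 P.isPGroup') x
        rw [Subgroup.orderOf_coe, hj]
        refine dvd_pow_self p fun h => hx ?_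
        rw [h, pow_zero, orderOf_eq_one_iff] at hj
        exact hj
      · simp
    simp only [hm, conj_irr_one, map_mul, map_natCast, irr_one_eq_charDegree] at h2
    rw [← h2]
    exact Finset.sum_congr rfl fun χ _ => by ring
  · rw [Finset.sum_subtype (p := fun χ => χ ∈ B) _ (fun χ => by simp),
      Fintype.sum_equiv e (fun i => S.d (e i) * PhiT (e i)) (fun j => S.d j * PhiT j) fun _ => rfl]
    simp only [PhiT, Finset.mul_sum]
    rw [Finset.sum_comm]
    refine Finset.sum_congr rfl fun χ _ => ?_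
    rw [sq]
    conv_lhs => arg 1; rw [hdeg χ]
    rw [Finset.sum_mul]
    exact Finset.sum_congr rfl fun j _ => by ring

/-- The factorisation of the sum of the squares of the degrees of a block. -/
theorem degree_square_sum (hM : IsPModular p M) {B : Set (IrrCharacter G)} (hB : IsPBlock M B)
    (g : ℕ) (hg1 : ∀ χ ∈ B, g ∣ charDegree (χ : G → ℂ))
    (hg2 : ∀ g' : ℕ, (∀ χ ∈ B, g' ∣ charDegree (χ : G → ℂ)) → g' ∣ g) :
    g.factorization p = (Nat.card G).factorization p - blockDefect p B ∧
      ∃ v : ℕ, 0 < v ∧ ¬ p ∣ v ∧ blockRank p B ≤ v ∧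
        ∑ᶠ χ ∈ B, charDegree (χ : G → ℂ) ^ 2 =
          p ^ (2 * (Nat.card G).factorization p - blockDefect p B) *
            (g / p ^ ((Nat.card G).factorization p - blockDefect p B)) ^ 2 * v := by
  classical
  set a := (Nat.card G).factorization p with ha
  set d := blockDefect p B with hd
  obtain ⟨χ₀, hχ₀, h0⟩ := exists_heightZero hM hB
  have hg0 : g ≠ 0 := fun h => (charDegree_pos χ₀).ne' (Nat.eq_zero_of_zero_dvd (h ▸ hg1 χ₀ hχ₀))
  have hfac : g.factorization p = a - d := by
    refine le_antisymm ?_ ?_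
    · have h1 : g.factorization p ≤ (charDegree (χ₀ : G → ℂ)).factorization p :=
        (Nat.factorization_le_iff_dvd hg0 (charDegree_pos χ₀).ne').2 (hg1 χ₀ hχ₀) p
      refine h1.trans (le_of_eq ?_)
      have h4 := degExp_ge hM hB hχ₀
      rw [blockHeight, sInf_degExp_eq' hM hB] at h0
      omega
    · refine (hM.1.pow_dvd_iff_le_factorization hg0).1 (hg2 _ fun χ hχ => ?_)
      exact (hM.1.pow_dvd_iff_le_factorization (charDegree_pos χ).ne').2 (degExp_ge hM hB hχ)
  refine ⟨hfac, ?_⟩
  set u := g / p ^ (a - d) with hu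
  have hgu : g = p ^ (a - d) * u := by
    rw [hu, ← hfac, Nat.ordProj_mul_ordCompl_eq_self]
  have hup : Nat.Coprime (p ^ a) u := by
    rw [hu, ← hfac]
    exact Nat.Coprime.pow_left _ (Nat.coprime_ordCompl hM.1 hg0)
  have hu0 : 0 < u := Nat.pos_of_ne_zero fun h => hg0 (by rw [hgu, h, mul_zero])
  obtain ⟨l, dd, Phi, hl, hpos, hdvd, hPhi, hsum⟩ := exists_degree_split hM hB
  have hda : d ≤ a := blockDefect_le B
  have hpow : p ^ (2 * a - d) * u ^ 2 = p ^ (a - d) * u * (p ^ a * u) := by
    rw [show 2 * a - d = (a - d) + a by omega, pow_add]; ring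
  have hterm : ∀ i, p ^ (2 * a - d) * u ^ 2 ∣ dd i * Phi i := fun i => by
    rw [hpow]
    refine mul_dvd_mul (hgu ▸ (hdvd g hg1 i).1) (hup.mul_dvd_of_dvd_of_dvd (hPhi i) ?_)
    exact (Dvd.intro_left _ hgu.symm).trans (hdvd g hg1 i).2
  choose w hw using hterm
  have hK : 0 < p ^ (2 * a - d) * u ^ 2 := by
    have := hM.1.pos; positivity
  have hw1 : ∀ i, 1 ≤ w i := fun i => Nat.pos_of_ne_zero fun h => by
    have := Nat.mul_pos (hpos i).1 (hpos i).2
    rw [hw i, h, mul_zero] at this
    exact lt_irrefl 0 this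
  have htot : ∑ᶠ χ ∈ B, charDegree (χ : G → ℂ) ^ 2 = p ^ (2 * a - d) * u ^ 2 * ∑ i, w i := by
    rw [finsum_mem_eq_finite_toFinset_sum _ (Set.toFinite B),
      show (Set.toFinite B).toFinset = Finset.univ.filter (· ∈ B) by ext; simp, hsum,
      Finset.mul_sum]
    exact Finset.sum_congr rfl fun i _ => hw i
  have hl1 : blockRank p B ≤ ∑ i, w i := by
    rw [← hl]
    calc l = ∑ _i : Fin l, 1 := by simp
      _ ≤ ∑ i, w i := Finset.sum_le_sum fun i _ => hw1 i
  have hv0 : 0 < ∑ i, w i := by
    refine Nat.pos_of_ne_zero fun h => ?_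
    rw [h, mul_zero, finsum_mem_eq_finite_toFinset_sum _ (Set.toFinite B)] at htot
    have := Finset.sum_eq_zero_iff.1 htot χ₀ ((Set.Finite.mem_toFinset _).2 hχ₀)
    exact (pow_pos (charDegree_pos χ₀) 2).ne' this
  refine ⟨∑ i, w i, hv0, fun hpv => ?_, hl1, htot⟩
  have h1 := sum_sq_factorization hM hB
  rw [finsum_mem_eq_finite_toFinset_sum _ (Set.toFinite B),
    show (Set.toFinite B).toFinset = Finset.univ.filter (· ∈ B) by ext; simp] at htot
  rw [htot, Nat.factorization_mul hK.ne' hv0.ne', Finsupp.add_apply,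
    Nat.factorization_mul (pow_ne_zero _ hM.1.ne_zero) (pow_ne_zero _ hu0.ne'),
    Finsupp.add_apply, hM.1.factorization_pow, Finsupp.single_eq_same] at h1
  have h2 := hM.1.factorization_pos_of_dvd hv0.ne' hpv
  omega

end Cfsg.Agent.BrauerChar
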