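/-
For odd `p` a block has at least as many `p`-rational characters as its rank.
-/
import Cfsg.Agent.Lib.BrauerChar.AutTrace
import Cfsg.Agent.Lib.DefOne.Galois
import Cfsg.Agent.Lib.Char.Galois
import Mathlib.RingTheory.ZMod.UnitsCyclic

set_option linter.unusedSectionVars false
set_option linter.style.haveILetI false

namespace Cfsg.Agent.BrauerChar

open Cfsg MonoidAlgebra Cfsg.Agent.Blocks Cfsg.Agent.BrauerPairs
open scoped ComplexConjugate

universe u

variable {G : Type u} [Group G] [Fintype G] {M : Ideal AlgInt} [M.IsPrime] {p : ℕ}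

/-- The twisted sum over a section off the identity is a natural number. -/
theorem exists_section_sum (hM : IsPModular p M) {B : Set (IrrCharacter G)} (hB : IsPBlock M B)
    {k : ℕ} (hk : k.Coprime (Nat.card G))
    (hk1 : k ≡ 1 [MOD Nat.card G / p ^ (Nat.card G).factorization p])
    {x : G} (hx : ∃ i, orderOf x = p ^ i)
    [DecidablePred fun g : G => ∃ a, IsPPart p g a ∧ IsConj x a] :
    ∃ N : ℕ, ∑ g ∈ Finset.univ.filter (fun g : G => ∃ a, IsPPart p g a ∧ IsConj x a),
      blockPair B (g ^ k) g = (Nat.card G : ℂ) * N := by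
  classical
  set C := Subgroup.centralizer ({x} : Set G) with hC
  haveI : Fintype C := Fintype.ofFinite _
  have hF : ∀ g c : G, blockPair B ((c * g * c⁻¹) ^ k) (c * g * c⁻¹) = blockPair B (g ^ k) g := by
    intro g c
    rw [conj_pow]
    unfold blockPair
    exact Finset.sum_congr rfl fun χ _ => by
      rw [irr_conj_invariant χ g c, irr_conj_invariant χ (g ^ k) c]
  rw [sum_section hM.1 hx hC hF]
  have hmem : ∀ u : C, Commute x (u : G) := fun u =>
    (Subgroup.mem_centralizer_singleton_iff.1 u.2).symm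
  have hreg : ∀ u : C, ¬ p ∣ orderOf u → ((u : G)) ^ k = (u : G) := by
    intro u hu
    rw [← Subgroup.orderOf_coe] at hu
    conv_rhs => rw [← pow_one (u : G)]
    rw [pow_eq_pow_iff_modEq]
    refine hk1.of_dvd ?_
    refine Nat.Coprime.dvd_of_dvd_mul_left
      ((Nat.Coprime.pow_left ((Nat.card G).factorization p) ((hM.1.coprime_iff_not_dvd).2 hu)).symm) ?_
    rw [Nat.ordProj_mul_ordCompl_eq_self]
    exact orderOf_dvd_natCard _
  have hterm : ∀ u : C, ¬ p ∣ orderOf u →
      blockPair B ((x * (u : G)) ^ k) (x * u) = blockPair B (x ^ k * u) (x * u) := fun u hu => by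
    rw [(hmem u).mul_pow, hreg u hu]
  rw [Finset.sum_congr rfl fun u hu => hterm u (Finset.mem_filter.1 hu).2]
  obtain ⟨i, hi⟩ := hx
  have hxk : orderOf (x ^ k) = p ^ i := by
    rw [Nat.Coprime.orderOf_pow (Nat.Coprime.coprime_dvd_left (orderOf_dvd_natCard x) hk.symm), hi]
  by_cases hconj : IsConj (x ^ k) x
  · obtain ⟨h, hh⟩ := isConj_iff.1 hconj
    -- `h` normalises the centraliser
    have hxh : x ^ k = h⁻¹ * x * h := by
      calc x ^ k = h⁻¹ * (h * x ^ k * h⁻¹) * h := by group
        _ = h⁻¹ * x * h := by rw [hh]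
    obtain ⟨e, he⟩ : ∃ e, (x ^ k) ^ e = x :=
      exists_pow_eq_self_of_coprime
        (Nat.Coprime.coprime_dvd_right (orderOf_dvd_natCard x) hk)
    have hiff : ∀ c : G, Commute x c ↔ Commute x (h * c * h⁻¹) := by
      intro c
      have h1 : Commute x c ↔ Commute (x ^ k) c :=
        ⟨fun hc => hc.pow_left k, fun hc => he ▸ hc.pow_left e⟩
      rw [h1, hxh]
      constructor
      · intro hc
        calc x * (h * c * h⁻¹) = h * ((h⁻¹ * x * h) * c) * h⁻¹ := by group
          _ = h * (c * (h⁻¹ * x * h)) * h⁻¹ := by rw [hc.eq]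
          _ = h * c * h⁻¹ * x := by group
      · intro hc
        show h⁻¹ * x * h * c = c * (h⁻¹ * x * h)
        calc h⁻¹ * x * h * c = h⁻¹ * (x * (h * c * h⁻¹)) * h := by group
          _ = h⁻¹ * ((h * c * h⁻¹) * x) * h := by rw [hc.eq]
          _ = c * (h⁻¹ * x * h) := by group
    let α : C ≃* C :=
      { toFun := fun c => ⟨h * c * h⁻¹, Subgroup.mem_centralizer_singleton_iff.2
          ((hiff c).1 (hmem c)).eq.symm⟩
        invFun := fun c => ⟨h⁻¹ * c * h, Subgroup.mem_centralizer_singleton_iff.2 (by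
          refine ((hiff _).2 ?_).eq.symm
          rw [show h * (h⁻¹ * (c : G) * h) * h⁻¹ = c by group]
          exact hmem c)⟩
        left_inv := fun c => Subtype.ext (by simp [mul_assoc])
        right_inv := fun c => Subtype.ext (by simp [mul_assoc])
        map_mul' := fun a b => Subtype.ext (by simp [mul_assoc]) }
    have hval : ∀ u : C, ¬ p ∣ orderOf u → blockPair B (x ^ k * u) (x * u) =
        ∑ b ∈ unitBlocks M (restrictElt C (blockEltR M B)), blockPair b (α u) u := by
      intro u hu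
      rw [← blockPair_local hM hB x ⟨i, hi⟩ C (by rw [hC, centralizer_zpowers_eq]) (α u) u
        (by rwa [MulEquiv.orderOf_eq]) hu]
      unfold blockPair
      refine Finset.sum_congr rfl fun χ _ => ?_
      congr 1
      rw [← irr_conj_invariant χ (x ^ k * u) h]
      refine congrArg (χ : G → ℂ) ?_
      show h * (x ^ k * u) * h⁻¹ = x * (h * u * h⁻¹)
      rw [hxh]
      group
    rw [Finset.sum_congr rfl fun u hu => hval u (Finset.mem_filter.1 hu).2, Finset.sum_comm]
    choose N hN using fun b : {b // b ∈ unitBlocks M (restrictElt C (blockEltR M B))} =>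
      exists_aut_trace hM (mem_unitBlocks.1 b.2).1 α
    refine ⟨∑ b, N b, ?_⟩
    rw [← Finset.sum_coe_sort, Finset.sum_congr rfl fun b _ => hN b, ← Finset.mul_sum]
    push_cast
    rw [mul_assoc, inv_mul_cancel_left₀ (Nat.cast_ne_zero.2 Nat.card_pos.ne')]
  · refine ⟨0, ?_⟩
    rw [Finset.sum_eq_zero fun u hu => ?_, mul_zero, Nat.cast_zero, mul_zero]
    have hu' : ¬ p ∣ orderOf (u : G) := by
      rw [Subgroup.orderOf_coe]; exact (Finset.mem_filter.1 hu).2
    exact blockPair_eq_zero_of_not_isConj hM hB ⟨i, hxk⟩ ⟨i, hi⟩ ((hmem u).pow_left k) (hmem u)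
      hu' hu' hconj

/-- For a fixed exponent, the fixed characters of a block are at least as many as its rank. -/
theorem rank_le_fixed (hM : IsPModular p M) {B : Set (IrrCharacter G)} (hB : IsPBlock M B)
    {k : ℕ} (hk : k.Coprime (Nat.card G))
    (hk1 : k ≡ 1 [MOD Nat.card G / p ^ (Nat.card G).factorization p]) :
    blockRank p B ≤
      Nat.card {χ : IrrCharacter G // χ ∈ B ∧ ∀ g : G, (χ : G → ℂ) (g ^ k) = (χ : G → ℂ) g} := by
  classical
  obtain ⟨σ, hσ⟩ := Cfsg.Agent.CharGalois.exists_galoisAut (Nat.card_pos (α := G)).ne' hk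
  have hgal : ∀ (χ : IrrCharacter G) g, (χ : G → ℂ) (g ^ k) = (DefOne.galT σ χ : G → ℂ) g := by
    intro χ g
    rw [DefOne.galT_apply]
    exact (Cfsg.Agent.CharGalois.map_char (irr_isCharacter χ) σ.toRingHom hσ g).symm
  have hG : (Nat.card G : ℂ) ≠ 0 := Nat.cast_ne_zero.2 Nat.card_pos.ne'
  -- counting through the pairing
  have hcount : (Nat.card G : ℂ) * (Nat.card {χ : IrrCharacter G //
      χ ∈ B ∧ ∀ g : G, (χ : G → ℂ) (g ^ k) = (χ : G → ℂ) g} : ℂ) =
      ∑ g, blockPair B (g ^ k) g := by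
    have hc' : Nat.card {χ : IrrCharacter G //
        χ ∈ B ∧ ∀ g : G, (χ : G → ℂ) (g ^ k) = (χ : G → ℂ) g} =
        (Finset.univ.filter (fun χ : IrrCharacter G =>
          χ ∈ B ∧ ∀ g : G, (χ : G → ℂ) (g ^ k) = (χ : G → ℂ) g)).card := by
      rw [Nat.card_eq_fintype_card, Fintype.card_subtype]
    unfold blockPair
    rw [Finset.sum_comm, hc',
      Finset.card_eq_sum_ones, Nat.cast_sum, Finset.mul_sum,
      show Finset.univ.filter (fun χ : IrrCharacter G =>
        χ ∈ B ∧ ∀ g : G, (χ : G → ℂ) (g ^ k) = (χ : G → ℂ) g) =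
        (Finset.univ.filter (· ∈ B)).filter
          (fun χ : IrrCharacter G => DefOne.galT σ χ = χ) from ?_, Finset.sum_filter]
    · refine Finset.sum_congr rfl fun χ _ => ?_
      rw [Finset.sum_congr rfl fun g _ => by rw [hgal χ g]]
      split_ifs with h
      · rw [h, Nat.cast_one, mul_one]
        have h1 := Cfsg.Agent.Char.classInner_self_irr χ.2
        unfold classInner at h1
        rwa [inv_mul_eq_one₀ hG] at h1
      · have h1 := Cfsg.Agent.Char.classInner_irr_of_ne (DefOne.galT σ χ).2 χ.2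
          fun e => h (Subtype.ext e)
        unfold classInner at h1
        exact ((mul_eq_zero.1 h1).resolve_left (inv_ne_zero hG)).symm
    · ext χ
      simp only [Finset.mem_filter, Finset.mem_univ, true_and]
      refine and_congr_right fun _ => ⟨fun h => Subtype.ext (funext fun g => ?_), fun h g => ?_⟩
      · rw [← hgal, h]
      · rw [hgal, h]
  -- the classes of p-elements
  let X : Finset G := Finset.univ.filter fun g =>
    (∃ j : ℕ, orderOf g = p ^ j) ∧ (ConjClasses.mk g).out = g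
  have hout : ∀ g : G, IsConj g (ConjClasses.mk g).out := fun g =>
    ConjClasses.mk_eq_mk_iff_isConj.1 (Quotient.out_eq _).symm
  have hX : ∀ g : G, (∃ j : ℕ, orderOf g = p ^ j) → (ConjClasses.mk g).out ∈ X := by
    intro g hg
    refine Finset.mem_filter.2 ⟨Finset.mem_univ _, ?_, by
      rw [ConjClasses.mk_eq_mk_iff_isConj.2 (hout g).symm]⟩
    obtain ⟨c, hc⟩ := isConj_iff.1 (hout g)
    rw [← hc]
    simpa [← MulAut.conj_apply, MulEquiv.orderOf_eq] using hg
  have h1X : (1 : G) ∈ X := by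
    have := hX 1 ⟨0, by simp⟩
    rwa [isConj_one_right.1 (hout (1 : G))] at this
  have hsplit : ∀ F : G → ℂ, ∑ g, F g = ∑ x ∈ X,
      ∑ g ∈ Finset.univ.filter (fun g : G => ∃ a, IsPPart p g a ∧ IsConj x a), F g := by
    intro F
    simp only [Finset.sum_filter]
    rw [Finset.sum_comm]
    refine Finset.sum_congr rfl fun g _ => ?_
    obtain ⟨a, ha⟩ := exists_isPPart hM.1 g
    have haX : (ConjClasses.mk a).out ∈ X := hX a (by obtain ⟨_, _, _, h, _⟩ := ha; exact h)
    rw [Finset.sum_eq_single (ConjClasses.mk a).out, if_pos ⟨a, ha, (hout a).symm⟩]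
    · intro y hy hne
      rw [if_neg]
      rintro ⟨a', ha', hya⟩
      refine hne ?_
      rw [← (Finset.mem_filter.1 hy).2.2, ConjClasses.mk_eq_mk_iff_isConj.2 hya,
        isPPart_unique hM.1 ha' ha]
    · exact fun h => absurd haX h
  choose N hN using fun x : {x // x ∈ X} =>
    exists_section_sum hM hB hk hk1 (Finset.mem_filter.1 x.2).2.1
  have hone : ∑ g ∈ Finset.univ.filter (fun g : G => ∃ a, IsPPart p g a ∧ IsConj 1 a),
      blockPair B (g ^ k) g = (Nat.card G : ℂ) * blockRank p B := by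
    rw [blockRank_eq hM hB, mul_inv_cancel_left₀ hG]
    refine Finset.sum_congr ?_ fun g hg => ?_
    · ext g
      simp only [Finset.mem_filter, Finset.mem_univ, true_and]
      constructor
      · rintro ⟨a, ha, h1a⟩
        rw [isConj_one_right.1 h1a] at ha
        exact (isPPart_one_iff hM.1).1 ha
      · exact fun h => ⟨1, (isPPart_one_iff hM.1).2 h, IsConj.refl 1⟩
    · have hg' : ¬ p ∣ orderOf g := (Finset.mem_filter.1 hg).2
      congr 1
      conv_rhs => rw [← pow_one g]
      rw [pow_eq_pow_iff_modEq]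
      refine hk1.of_dvd ?_
      refine Nat.Coprime.dvd_of_dvd_mul_left
        ((Nat.Coprime.pow_left ((Nat.card G).factorization p) ((hM.1.coprime_iff_not_dvd).2 hg')).symm) ?_
      rw [Nat.ordProj_mul_ordCompl_eq_self]
      exact orderOf_dvd_natCard _
  rw [hsplit, ← Finset.sum_coe_sort, Finset.sum_congr rfl fun x _ => hN x, ← Finset.mul_sum,
    ← Nat.cast_sum] at hcount
  have hk0 := mul_left_cancel₀ hG hcount
  rw [Nat.cast_inj] at hk0
  rw [hk0]
  refine le_trans ?_ (Finset.single_le_sum (fun x _ => Nat.zero_le (N x))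
    (Finset.mem_univ (⟨1, h1X⟩ : {x // x ∈ X})))
  refine le_of_eq ?_
  rw [← Nat.cast_inj (R := ℂ)]
  exact mul_left_cancel₀ hG (hone.symm.trans (hN ⟨1, h1X⟩))

/-- For odd `p` the `p`-rational characters of a block are at least as many as its rank. -/
theorem rank_le_rational (hM : IsPModular p M) (hodd : p ≠ 2) {B : Set (IrrCharacter G)}
    (hB : IsPBlock M B) :
    blockRank p B ≤ Nat.card {χ : IrrCharacter G // χ ∈ B ∧ ∀ k : ℕ, Nat.Coprime k (Nat.card G) →
      k ≡ 1 [MOD Nat.card G / p ^ (Nat.card G).factorization p] →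
      ∀ g : G, (χ : G → ℂ) (g ^ k) = (χ : G → ℂ) g} := by
  classical
  haveI := Fact.mk hM.1
  set a := (Nat.card G).factorization p with ha
  set n' := Nat.card G / p ^ a with hn'
  haveI : NeZero (p ^ a) := ⟨pow_ne_zero _ hM.1.ne_zero⟩
  haveI := ZMod.isCyclic_units_of_prime_pow p hM.1 hodd a
  obtain ⟨γ, hγ⟩ := IsCyclic.exists_generator (α := (ZMod (p ^ a))ˣ)
  have hn : p ^ a * n' = Nat.card G := Nat.ordProj_mul_ordCompl_eq_self _ _
  have hco : (p ^ a).Coprime n' :=
    Nat.Coprime.pow_left _ (Nat.coprime_ordCompl hM.1 Nat.card_pos.ne')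
  obtain ⟨k₀, hk₀a, hk₀b⟩ := Nat.chineseRemainder hco (γ : ZMod (p ^ a)).val 1
  have hc1 : k₀.Coprime (p ^ a) := by
    rw [Nat.Coprime, hk₀a.gcd_eq]
    exact ZMod.val_coe_unit_coprime γ
  have hc2 : k₀.Coprime n' := by
    rw [Nat.Coprime, hk₀b.gcd_eq, Nat.gcd_one_left]
  have hc : k₀.Coprime (Nat.card G) := hn ▸ Nat.Coprime.mul_right hc1 hc2
  refine (rank_le_fixed hM hB hc hk₀b).trans (le_of_eq (Nat.card_congr (Equiv.subtypeEquivRight
    fun χ => and_congr_right fun _ => ⟨fun h k hk hk1 g => ?_, fun h => h k₀ hc hk₀b⟩)))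
  have hpow : ∀ j : ℕ, (χ : G → ℂ) (g ^ k₀ ^ j) = (χ : G → ℂ) g := by
    intro j
    induction j with
    | zero => simp
    | succ j ih => rw [pow_succ, pow_mul, h, ih]
  have hka : k.Coprime (p ^ a) := Nat.Coprime.coprime_dvd_right (hn ▸ dvd_mul_right _ _) hk
  obtain ⟨j, hj⟩ : ∃ j : ℕ, γ ^ j = ZMod.unitOfCoprime k hka := by
    have := (mem_powers_iff_mem_zpowers).2 (hγ (ZMod.unitOfCoprime k hka))
    exact this
  have hmod : k ≡ k₀ ^ j [MOD Nat.card G] := by
    rw [← hn, ← Nat.modEq_and_modEq_iff_modEq_mul hco]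
    constructor
    · rw [← ZMod.natCast_eq_natCast_iff]
      have h1 : ((k₀ : ZMod (p ^ a))) = (γ : ZMod (p ^ a)) := by
        rw [(ZMod.natCast_eq_natCast_iff _ _ _).2 hk₀a, ZMod.natCast_zmod_val]
      rw [Nat.cast_pow, h1, ← Units.val_pow_eq_pow_val, hj, ZMod.coe_unitOfCoprime]
    · refine hk1.trans ?_
      simpa using (hk₀b.pow j).symm
  rw [← hpow j]
  refine congrArg (χ : G → ℂ) ?_
  rw [pow_eq_pow_iff_modEq]
  exact hmod.of_dvd (orderOf_dvd_natCard g)

end Cfsg.Agent.BrauerChar
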